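import Groth.Agent.EtCechInjLib.Delta
import Mathlib.CategoryTheory.Abelian.DiagramLemmas.KernelCokernelComp
import Mathlib.CategoryTheory.Abelian.SerreClass.Basic
import Mathlib.CategoryTheory.Abelian.RightDerived

/-!
# Membership in a Serre class along a composition of left exact functors

A substitute for the spectral sequence of a composition of functors.
-/

set_option autoImplicit false
set_option linter.unusedSectionVars false
set_option linter.style.haveILetI false
set_option backward.isDefEq.respectTransparency false
set_option backward.isDefEq.respectTransparency.types false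
set_option maxHeartbeats 1000000

open CategoryTheory CategoryTheory.Limits LocCohLib

noncomputable section

namespace EtProperConsLib

section

variable {A : Type*} [Category A] [Abelian A]

section Complex

variable (K : CochainComplex A ℕ) (b : ℕ)

/-- The image of the differential out of degree `b`. -/
def imgCx : A := kernel (K.homologyπ (b + 1))

/-- The differential onto its image. -/
def toImg : K.X b ⟶ imgCx K b :=
  kernel.lift _ (K.toCycles b (b + 1)) (K.toCycles_comp_homologyπ b (b + 1))

def E1 : ShortComplex A :=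
  ShortComplex.mk (K.iCycles b) (toImg K b) (by
    refine (cancel_mono (kernel.ι (K.homologyπ (b + 1)) ≫ K.iCycles (b + 1))).1 ?_
    simp [toImg])

def E2 : ShortComplex A :=
  ShortComplex.mk (kernel.ι (K.homologyπ (b + 1))) (K.homologyπ (b + 1)) (kernel.condition _)

theorem E2_shortExact : (E2 K b).ShortExact where
  exact := ShortComplex.exact_of_f_is_kernel _ (kernelIsKernel _)
  mono_f := inferInstanceAs (Mono (kernel.ι _))
  epi_g := inferInstanceAs (Epi (K.homologyπ (b + 1)))

theorem E1_shortExact : (E1 K b).ShortExact where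
  exact := by
    haveI : Mono (E1 K b).f := inferInstanceAs (Mono (K.iCycles b))
    refine ShortComplex.exact_of_f_is_kernel _ (KernelFork.IsLimit.ofι' _ _ fun k hk => ⟨K.liftCycles k (b + 1)
      (CochainComplex.next ℕ b) ?_, K.liftCycles_i _ _ _ _⟩)
    have h := congrArg (· ≫ kernel.ι (K.homologyπ (b + 1)) ≫ K.iCycles (b + 1)) hk
    simpa [E1, toImg] using h
  mono_f := inferInstanceAs (Mono (K.iCycles b))
  epi_g := (ShortComplex.exact_iff_epi_kernel_lift
    (ShortComplex.mk (K.toCycles b (b + 1)) (K.homologyπ (b + 1)) (K.toCycles_comp_homologyπ b (b + 1)))).1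
      (ShortComplex.exact_of_g_is_cokernel _ (K.homologyIsCokernel b (b + 1) (CochainComplex.prev_nat_succ b)))

end Complex

variable [EnoughInjectives A] [HasInjectiveResolutions A] {B : Type*} [Category B] [Abelian B]
  (F : A ⥤ B) [F.Additive] [PreservesFiniteLimits F] (P : ObjectProperty B) [P.IsSerreClass]
  {K : CochainComplex A ℕ} (hK : ∀ b a, IsZero ((F.rightDerived (a + 1)).obj (K.X b)))

include hK in
theorem prop_cycles : ∀ b a, (∀ a' b', b' ≤ b → a' + b' = a + 1 + b →
      P ((F.rightDerived a').obj (K.homology b'))) →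
    P ((F.rightDerived (a + 1)).obj (K.cycles b)) := by
  intro b
  induction b with
  | zero =>
    intro a h
    exact P.prop_of_iso ((F.rightDerived (a + 1)).mapIso (CochainComplex.isoHomologyπ₀ K).symm) (h _ _ le_rfl rfl)
  | succ b ih =>
    intro a h
    let T := EtCechInjLib.derDelta F
    refine P.prop_X₂_of_exact (T.exact₂ (E2_shortExact K b) (a + 1)) ?_ (h _ _ le_rfl rfl)
    haveI : Mono (T.δ (E1_shortExact K b) (a + 1)) :=
      (T.exact₃ (E1_shortExact K b) (a + 1)).mono_g ((hK b a).eq_of_src _ _)
    exact P.prop_of_mono (T.δ (E1_shortExact K b) (a + 1)) (ih (a + 1) fun a' b' hb he =>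
      h a' b' (by omega) (by omega))

instance : PreservesFiniteLimits (F.rightDerived 0) :=
  preservesFiniteLimits_of_natIso F.rightDerivedZeroIsoSelf.symm

variable (K) in
/-- Cycles of the image complex under a left exact functor. -/
def cyclesIso (n : ℕ) :
    (F.rightDerived 0).obj (K.cycles n) ≅ (((F.rightDerived 0).mapHomologicalComplex _).obj K).cycles n :=
  IsLimit.conePointUniqueUpToIso
    (KernelFork.mapIsLimit _ (K.cyclesIsKernel n (n + 1) (CochainComplex.next ℕ n)) (F.rightDerived 0))
    ((((F.rightDerived 0).mapHomologicalComplex _).obj K).cyclesIsKernel n (n + 1) (CochainComplex.next ℕ n))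

theorem cyclesIso_hom_i (n : ℕ) : (cyclesIso F K n).hom ≫ (((F.rightDerived 0).mapHomologicalComplex _).obj K).iCycles n =
    (F.rightDerived 0).map (K.iCycles n) :=
  IsLimit.conePointUniqueUpToIso_hom_comp _ _ WalkingParallelPair.zero

/-- The map to the homology of the image complex. -/
def piHom (n : ℕ) : (F.rightDerived 0).obj (K.cycles n) ⟶ (((F.rightDerived 0).mapHomologicalComplex _).obj K).homology n :=
  (cyclesIso F K n).hom ≫ (((F.rightDerived 0).mapHomologicalComplex _).obj K).homologyπ n

instance (n : ℕ) : Epi (piHom F (K := K) n) := epi_comp _ _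

theorem toCycles_piHom (n : ℕ) : (F.rightDerived 0).map (K.toCycles n (n + 1)) ≫ piHom F (n + 1) = 0 := by
  have h : (F.rightDerived 0).map (K.toCycles n (n + 1)) ≫ (cyclesIso F K (n + 1)).hom =
      (((F.rightDerived 0).mapHomologicalComplex _).obj K).toCycles n (n + 1) := by
    refine (cancel_mono ((((F.rightDerived 0).mapHomologicalComplex _).obj K).iCycles (n + 1))).1 ?_
    rw [Category.assoc, cyclesIso_hom_i, ← Functor.map_comp, HomologicalComplex.toCycles_i,
      HomologicalComplex.toCycles_i]
    rfl
  rw [piHom, reassoc_of% h, HomologicalComplex.toCycles_comp_homologyπ]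

theorem exact_piHom (n : ℕ) : (ShortComplex.mk _ _ (toCycles_piHom F (K := K) n)).Exact := by
  let L := ((F.rightDerived 0).mapHomologicalComplex (ComplexShape.up ℕ)).obj K
  have hL : (ShortComplex.mk (L.toCycles n (n + 1)) (L.homologyπ (n + 1)) (L.toCycles_comp_homologyπ n (n + 1))).Exact :=
    ShortComplex.exact_of_g_is_cokernel _ (L.homologyIsCokernel n (n + 1) (CochainComplex.prev_nat_succ n))
  refine (ShortComplex.exact_iff_of_iso (ShortComplex.isoMk (S₁ := ShortComplex.mk _ _ (L.toCycles_comp_homologyπ n (n + 1))) (S₂ := ShortComplex.mk _ _ (toCycles_piHom F (K := K) n)) (Iso.refl _) (cyclesIso F K (n + 1)).symm (Iso.refl _) ?_ ?_)).1 hL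
  · refine (cancel_mono (cyclesIso F K (n + 1)).hom).1 ?_
    refine (cancel_mono (L.iCycles (n + 1))).1 ?_
    simp only [L, Iso.refl_hom, Category.id_comp, Iso.symm_hom, Category.assoc, Iso.inv_hom_id, Category.comp_id]
    rw [cyclesIso_hom_i, ← Functor.map_comp, HomologicalComplex.toCycles_i, HomologicalComplex.toCycles_i]
    rfl
  · simp [L, piHom]

theorem map_toImg_ι (n : ℕ) : (F.rightDerived 0).map (toImg K n) ≫ (F.rightDerived 0).map (E2 K n).f =
    (F.rightDerived 0).map (K.toCycles n (n + 1)) := by
  rw [← Functor.map_comp]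
  exact congrArg (F.rightDerived 0).map (kernel.lift_ι _ _ _)

include hK in
/-- The homology of the image complex from the derived values of the homology. -/
theorem prop_homology (n : ℕ) (h : ∀ a b, a + b = n → P ((F.rightDerived a).obj (K.homology b))) :
    P ((((F.rightDerived 0).mapHomologicalComplex _).obj K).homology n) := by
  cases n with
  | zero =>
    let L := ((F.rightDerived 0).mapHomologicalComplex (ComplexShape.up ℕ)).obj K
    exact P.prop_of_iso (((F.rightDerived 0).mapIso (CochainComplex.isoHomologyπ₀ K)).symm ≪≫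
      cyclesIso F K 0 ≪≫ CochainComplex.isoHomologyπ₀ L) (h 0 0 rfl)
  | succ n =>
    let T := EtCechInjLib.derDelta F
    let i := (F.rightDerived 0).map (E2 K n).f
    let ψ : (F.rightDerived 0).obj (imgCx K n) ⟶ _ := i ≫ piHom F (n + 1)
    haveI : Epi (T.δ (E1_shortExact K n) 0) := T.epi_δ _ 0 (hK n 0)
    have hex := T.exact₃ (E1_shortExact K n) 0
    have hψ : (F.rightDerived 0).map (toImg K n) ≫ ψ = 0 := by
      simp only [ψ, i]
      rw [reassoc_of% (map_toImg_ι F (K := K) n), toCycles_piHom]
    let θ : (F.rightDerived 1).obj (K.cycles n) ⟶ _ := hex.desc ψ hψ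
    have hθ : T.δ (E1_shortExact K n) 0 ≫ θ = ψ := hex.g_desc ψ hψ
    have h1 : P ((F.rightDerived 1).obj (K.cycles n)) :=
      prop_cycles F P hK n 0 fun a' b' hb he => h a' b' (by omega)
    have h0 : P ((F.rightDerived 0).obj (K.homology (n + 1))) := h 0 (n + 1) (Nat.zero_add _)
    refine P.prop_X₂_of_shortExact (S := ShortComplex.mk (Abelian.image.ι θ) (cokernel.π θ)
      (kernel.condition _)) ?_
        (P.prop_of_epi (Abelian.factorThruImage θ) h1) ?_
    · exact { exact := ShortComplex.exact_of_f_is_kernel _ (kernelIsKernel _) }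
    have hc : i ≫ piHom F (n + 1) ≫ cokernel.π θ = 0 := by
      rw [← Category.assoc, show i ≫ piHom F (n + 1) = ψ from rfl, ← hθ, Category.assoc, cokernel.condition, comp_zero]
    haveI : Epi (cokernel.desc i (piHom F (n + 1) ≫ cokernel.π θ) hc) :=
      epi_of_epi_fac (cokernel.π_desc _ _ _)
    refine P.prop_of_epi (cokernel.desc i (piHom F (n + 1) ≫ cokernel.π θ) hc) ?_
    haveI : Mono (cokernel.desc i ((F.rightDerived 0).map (E2 K n).g) (by
        rw [← Functor.map_comp, (E2 K n).zero, Functor.map_zero])) :=
      (T.exact₂ (E2_shortExact K n) 0).mono_cokernelDesc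
    have hz : i ≫ (F.rightDerived 0).map (E2 K n).g = 0 := by
      rw [← Functor.map_comp, (E2 K n).zero, Functor.map_zero]
    exact P.prop_of_mono (cokernel.desc i ((F.rightDerived 0).map (E2 K n).g) hz) h0

include hK in
/-- The derived value of the bottom homology from the homology of the image complex. -/
theorem prop_bottom (n : ℕ) (h : ∀ a b, 1 ≤ b → a + b + 1 = n → P ((F.rightDerived a).obj (K.homology b)))
    (hn : P ((((F.rightDerived 0).mapHomologicalComplex _).obj K).homology n)) :
    P ((F.rightDerived n).obj (K.homology 0)) := by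
  cases n with
  | zero =>
    let L := ((F.rightDerived 0).mapHomologicalComplex (ComplexShape.up ℕ)).obj K
    exact P.prop_of_iso (((F.rightDerived 0).mapIso (CochainComplex.isoHomologyπ₀ K)).symm ≪≫
      cyclesIso F K 0 ≪≫ CochainComplex.isoHomologyπ₀ L).symm hn
  | succ m =>
    let T := EtCechInjLib.derDelta F
    have key : ∀ d ≤ m, P ((F.rightDerived (d + 1)).obj (K.cycles (m - d))) := by
      intro d
      induction d with
      | zero =>
        intro _
        rw [Nat.sub_zero]
        haveI : Epi (T.δ (E1_shortExact K m) 0) := T.epi_δ _ 0 (hK m 0)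
        have hex := T.exact₃ (E1_shortExact K m) 0
        let f := (F.rightDerived 0).map (toImg K m)
        let g := (F.rightDerived 0).map (E2 K m).f
        haveI : Mono g := T.mono₀ (E2_shortExact K m)
        have hsq : f ≫ g = 𝟙 _ ≫ f ≫ g := (Category.id_comp _).symm
        haveI : Mono (cokernel.map f (f ≫ g) (𝟙 _) g hsq) :=
          ((kernelCokernelCompSequence_exact f g).exact 2).mono_g ((isZero_kernel_of_mono g).eq_of_src _ _)
        have hfg : f ≫ g = (F.rightDerived 0).map (K.toCycles m (m + 1)) := map_toImg_ι F m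
        have h1 : P (cokernel (f ≫ g)) := by
          haveI := (exact_piHom F (K := K) m).mono_cokernelDesc
          exact P.prop_of_iso (cokernelIsoOfEq hfg).symm (P.prop_of_mono
            (cokernel.desc _ (piHom F (m + 1)) (toCycles_piHom F m)) hn)
        have h2 : P (cokernel f) := P.prop_of_mono (cokernel.map f (f ≫ g) (𝟙 _) g hsq) h1
        let δ' := cokernel.desc f (T.δ (E1_shortExact K m) 0) (T.map_comp_δ (E1_shortExact K m) 0)
        haveI : Epi δ' := epi_of_epi_fac (cokernel.π_desc _ _ _)
        exact P.prop_of_epi δ' h2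
      | succ d ih =>
        intro hd
        have hP := ih (by omega)
        obtain ⟨j, hj⟩ : ∃ j, m - d = j + 1 := ⟨m - d - 1, by omega⟩
        rw [hj] at hP
        rw [show m - (d + 1) = j by omega]
        haveI : Epi (T.δ (E1_shortExact K j) (d + 1)) := T.epi_δ _ _ (hK j (d + 1))
        refine P.prop_of_epi (T.δ (E1_shortExact K j) (d + 1)) ?_
        exact P.prop_X₂_of_exact (T.exact₁ (E2_shortExact K j) d) (h d (j + 1) (by omega) (by omega)) hP
    have := key m le_rfl
    rw [Nat.sub_self] at this
    exact P.prop_of_iso ((F.rightDerived (m + 1)).mapIso (CochainComplex.isoHomologyπ₀ K)) this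

section Comp

variable {A' : Type*} [Category A'] [Abelian A'] [HasInjectiveResolutions A'] (G : A' ⥤ A) [G.Additive]
  [G.PreservesInjectiveObjects] {H : A' ⥤ B} [H.Additive] (e : G ⋙ F ≅ H) {X : A'}

/-- The image of an injective resolution. -/
def imgRes (I : InjectiveResolution X) : CochainComplex A ℕ :=
  (G.mapHomologicalComplex (ComplexShape.up ℕ)).obj I.cocomplex

theorem acyclic_imgRes (I : InjectiveResolution X) (b a : ℕ) :
    IsZero ((F.rightDerived (a + 1)).obj ((imgRes G I).X b)) := by
  haveI : Injective ((imgRes G I).X b) := G.injective_obj (I.cocomplex.X b)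
  exact Functor.isZero_rightDerived_obj_injective_succ _ a _

include e in
theorem nonempty_homology_iso (I : InjectiveResolution X) (n : ℕ) :
    Nonempty ((((F.rightDerived 0).mapHomologicalComplex _).obj (imgRes G I)).homology n ≅ (H.rightDerived n).obj X) := by
  haveI : (G ⋙ F.rightDerived 0).Additive := inferInstance
  exact ⟨(HomologicalComplex.homologyFunctor B (ComplexShape.up ℕ) n).mapIso
    ((NatIso.mapHomologicalComplex (Functor.isoWhiskerLeft G F.rightDerivedZeroIsoSelf ≪≫ e) _).app I.cocomplex) ≪≫
      (I.isoRightDerivedObj H n).symm⟩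

include e in
/-- Composition. -/
theorem prop_comp (n : ℕ) (h : ∀ a b, a + b = n → P ((F.rightDerived a).obj ((G.rightDerived b).obj X))) :
    P ((H.rightDerived n).obj X) := by
  let I := injectiveResolution X
  obtain ⟨i⟩ := nonempty_homology_iso F G e I n
  refine P.prop_of_iso i (prop_homology F P (acyclic_imgRes F G I) n fun a b hab => ?_)
  exact P.prop_of_iso ((F.rightDerived a).mapIso (I.isoRightDerivedObj G b)) (h a b hab)

include e in
/-- Descent from the composition. -/
theorem prop_of_comp (n : ℕ)
    (h : ∀ a b, 1 ≤ b → a + b + 1 = n → P ((F.rightDerived a).obj ((G.rightDerived b).obj X)))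
    (hn : P ((H.rightDerived n).obj X)) : P ((F.rightDerived n).obj ((G.rightDerived 0).obj X)) := by
  let I := injectiveResolution X
  obtain ⟨i⟩ := nonempty_homology_iso F G e I n
  refine P.prop_of_iso ((F.rightDerived n).mapIso (I.isoRightDerivedObj G 0)).symm
    (prop_bottom F P (acyclic_imgRes F G I) n (fun a b hb hab => ?_) (P.prop_of_iso i.symm hn))
  exact P.prop_of_iso ((F.rightDerived a).mapIso (I.isoRightDerivedObj G b)) (h a b hb hab)

end Comp

end

end EtProperConsLib
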