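import Groth.Agent.EtProperConsLib.Abstract
import Groth.Agent.ConsEmbedLib.Main
import Groth.Agent.EtPBCProperLib.Torsion
import Groth.Agent.EtShLib.NoethCons
import Groth.Agent.EtShLib.FlasquePush
import Groth.Agent.EtBcQLib.Main
import Groth.Agent.EtStrictAcycLib.Fibre
import Groth.Agent.S0127
import Groth.Agent.S0137

/-!
# Morphisms whose higher direct images preserve constructibility
-/

set_option autoImplicit false
set_option linter.all false
set_option backward.isDefEq.respectTransparency false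
set_option backward.isDefEq.respectTransparency.types false
set_option synthInstance.maxHeartbeats 400000
set_option maxHeartbeats 1000000

universe u

open CategoryTheory CategoryTheory.Limits AlgebraicGeometry Opposite
open Groth.Agent Groth.Agent.EtShLib

attribute [local instance] EtSliceLib.pullExact

noncomputable section

namespace EtProperConsLib

/-- Constructible sheaves. -/
def Cons (X : Scheme.{u}) : ObjectProperty (EtCoh.Ab X) := fun F => IsCons (A := AddCommGrpCat.{u + 1}) FinP F

theorem cons_iff {X : Scheme.{u}} (F : EtCoh.Ab X) : Cons X F ↔ EtPBC.IsConstructible F :=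
  (isConstructible_iff F).symm

instance (X : Scheme.{u}) : (Cons X).IsClosedUnderIsomorphisms := ⟨fun e h => h.of_hom e.hom⟩

instance (X : Scheme.{u}) [IsLocallyNoetherian X] : (Cons X).IsSerreClass where
  exists_zero := by
    let S₀ := Spec (CommRingCat.of (ULift.{u} ℤ))
    obtain ⟨Z, hZ⟩ := HasZeroObject.zero (C := EtCoh.Ab S₀)
    haveI : Finite (AddCommGrpCat.of (ULift.{u + 1} PUnit.{1})) := inferInstanceAs (Finite (ULift.{u + 1} PUnit.{1}))
    haveI : Mono (hZ.to_ (EtCoh.const S₀ PUnit)) := ⟨fun a b _ => hZ.eq_of_tgt a b⟩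
    haveI : IsNoetherianRing (ULift.{u} ℤ) := isNoetherianRing_of_ringEquiv ℤ ULift.ringEquiv.symm
    haveI : IsLocallyNoetherian S₀ := inferInstance
    let a : X ⟶ S₀ := specULiftZIsTerminal.from X
    have h0 := (cons_of_mono (hZ.to_ (EtCoh.const S₀ PUnit)) (isCons_const _)).pull (f := a)
    exact ⟨_, (EtCoh.pull a).map_isZero hZ, h0⟩
  prop_of_mono i _ h := cons_of_mono i h
  prop_of_epi p _ h := cons_of_epi p h
  prop_X₂_of_shortExact hS h₁ h₃ := cons_extension hS h₁ h₃

instance {X Y : Scheme.{u}} (f : X ⟶ Y) : (EtCoh.push f).PreservesInjectiveObjects :=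
  ⟨fun {I} hI => haveI := hI; EtShLib.injective_push f I⟩

instance {X Y : Scheme.{u}} (f : X ⟶ Y) : (EtCoh.push f).Additive := { }

instance {X Y : Scheme.{u}} (f : X ⟶ Y) : PreservesFiniteLimits (EtCoh.push f) :=
  haveI : PreservesLimitsOfSize.{0, 0} (EtCoh.push f) := (EtCoh.pullPushAdj f).rightAdjoint_preservesLimits
  PreservesLimitsOfSize.preservesFiniteLimits _

/-- Constructible sheaves on quasi-compact quasi-separated schemes are torsion. -/
theorem isTorsion_of_cons {X : Scheme.{u}} [CompactSpace X] [QuasiSeparatedSpace X] {F : EtCoh.Ab X}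
    (hF : Cons X F) : EtCoh.IsTorsion F := by
  obtain ⟨m, Y, f, hf, hf', M, iM, fM, ι, hι⟩ := ConsEmbedLib.exists_embed ((cons_iff F).1 hF)
  let n := ∏ i, Nat.card (M i)
  have hn : 0 < n := Finset.prod_pos fun i _ => Nat.card_pos
  refine EtPBCProperLib.isTorsion_of_nsmul hn ?_
  rw [← cancel_mono ι, zero_comp]
  refine biproduct.hom_ext _ _ fun i => ?_
  rw [zero_comp, Preadditive.nsmul_comp, Category.id_comp, Preadditive.nsmul_comp]
  have h0 : n • 𝟙 (AddCommGrpCat.of (ULift.{u + 1} (M i))) = 0 := ConcreteCategory.hom_ext _ _ fun x => by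
    show AddCommGrpCat.homAddEquiv (n • 𝟙 _) x = _
    rw [map_nsmul, AddMonoidHom.nsmul_apply]
    obtain ⟨c, hc⟩ : Nat.card (M i) ∣ n := Finset.dvd_prod_of_mem _ (Finset.mem_univ i)
    refine ULift.ext _ _ ?_
    show n • x.down = 0
    rw [hc, mul_comm, mul_smul, card_nsmul_eq_zero', smul_zero]
  haveI : (EtCore.gsec (Y i)).Additive := ⟨fun {X Y f g} => rfl⟩
  haveI : (constantSheaf (Y i).smallEtaleTopology AddCommGrpCat.{u + 1}).Additive :=
    (EtCore.constAdj (Y i)).left_adjoint_additive
  have h1 : n • 𝟙 ((EtCoh.push (f i)).obj (EtCoh.const (Y i) (M i))) = 0 := by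
    rw [← CategoryTheory.Functor.map_id (EtCoh.push (f i)), ← CategoryTheory.Functor.map_id (constantSheaf _ _),
      ← Functor.map_nsmul, ← Functor.map_nsmul, h0, Functor.map_zero, Functor.map_zero]
  rw [← Category.comp_id (ι ≫ biproduct.π _ i), ← Preadditive.comp_nsmul, h1, comp_zero]

/-- All higher direct images preserve constructibility. -/
def RGood {X S : Scheme.{u}} (f : X ⟶ S) : Prop :=
  ∀ F : EtCoh.Ab X, Cons X F → ∀ q : ℕ, Cons S ((EtCoh.Rpush f q).obj F)

theorem cons_Rpush_zero {X S : Scheme.{u}} (f : X ⟶ S) {F : EtCoh.Ab X} (h : Cons S ((EtCoh.push f).obj F)) :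
    Cons S ((EtCoh.Rpush f 0).obj F) :=
  (Cons S).prop_of_iso ((EtCoh.push f).rightDerivedZeroIsoSelf.app F).symm h

theorem rGood_of_isFinite {X S : Scheme.{u}} (f : X ⟶ S) [IsFinite f] [IsLocallyNoetherian S] : RGood f := by
  intro F hF q
  haveI : LocallyOfFinitePresentation f := LocallyOfFinitePresentation.iff_locallyOfFiniteType.2 inferInstance
  rcases Nat.eq_zero_or_pos q with rfl | hq
  · exact cons_Rpush_zero f ((cons_iff _).2 (Groth.Agent.S0137.result f F ((cons_iff _).1 hF)))
  · exact (Cons S).prop_of_isZero (EtStrictAcycLib.isZero_Rpush_finite f F q hq)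

theorem RGood.comp {X Y S : Scheme.{u}} [IsLocallyNoetherian S] {h : X ⟶ Y} {g : Y ⟶ S} (hh : RGood h)
    (hg : RGood g) : RGood (h ≫ g) := fun F hF n =>
  prop_comp (EtCoh.push g) (Cons S) (EtCoh.push h) (EtCoh.pushComp g h) n fun a b _ => hg _ (hh F hF b) a

theorem RGood.of_surjective {X X' S : Scheme.{u}} [IsLocallyNoetherian S] [IsLocallyNoetherian X] {p : X' ⟶ X}
    [Surjective p] {f : X ⟶ S} (hp : RGood p) (hpf : RGood (p ≫ f)) : RGood f := by
  intro F hF q
  induction q using Nat.strong_induction_on generalizing F with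
  | _ q ih =>
    let G := (EtCoh.pull p).obj F
    have hG : Cons X' G := hF.pull
    haveI : Mono ((EtCoh.pullPushAdj p).unit.app F) := EtBcQLib.mono_unit p p.surjective F
    let ι : F ⟶ (EtCoh.Rpush p 0).obj G :=
      (EtCoh.pullPushAdj p).unit.app F ≫ ((EtCoh.push p).rightDerivedZeroIsoSelf.app G).inv
    haveI : Mono ι := mono_comp _ _
    let U := ShortComplex.mk ι (cokernel.π ι) (cokernel.condition ι)
    have hU : U.ShortExact := { exact := ShortComplex.exact_of_g_is_cokernel U (cokernelIsCokernel ι) }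
    let T := EtCechInjLib.derDelta (EtCoh.push f)
    have h2 : Cons S ((EtCoh.Rpush f q).obj U.X₂) :=
      prop_of_comp (EtCoh.push f) (Cons S) (EtCoh.push p) (EtCoh.pushComp f p) q
        (fun a b _ hab => ih a (by omega) _ (hp G hG b)) (hpf G hG q)
    rcases q with _ | q
    · haveI := T.mono₀ hU
      exact (Cons S).prop_of_mono ((T.F 0).map U.f) h2
    · refine (Cons S).prop_X₂_of_exact (T.exact₁ hU q) ?_ h2
      exact ih q (by omega) _ (cons_of_epi (cokernel.π ι) (hp G hG 0))

end EtProperConsLib
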