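import Groth.Agent.EtProperConsLib.Spread
import Groth.Agent.EtProperConsLib.Class
import Groth.Agent.EtPBCProperLib.Main
import Groth.Agent.S0135
import Groth.Agent.DevissLib.ClosedImm

/-!
# Constructibility from constructibility over dominant covers of all integral closed subschemes
-/

set_option autoImplicit false
set_option linter.all false
set_option backward.isDefEq.respectTransparency false
set_option backward.isDefEq.respectTransparency.types false
set_option synthInstance.maxHeartbeats 400000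
set_option maxHeartbeats 1000000

universe u

open CategoryTheory CategoryTheory.Limits AlgebraicGeometry Opposite
open Groth.Agent Groth.Agent.EtShLib

attribute [local instance] EtSliceLib.pullExact

noncomputable section

namespace EtProperConsLib

theorem cons_pull_comp {X Y Z : Scheme.{u}} (a : X ⟶ Y) (b : Y ⟶ Z) (c : X ⟶ Z) (h : a ≫ b = c) (F : EtCoh.Ab Z) :
    Cons X ((EtCoh.pull a).obj ((EtCoh.pull b).obj F)) ↔ Cons X ((EtCoh.pull c).obj F) := by
  let i := (pullCompA AddCommGrpCat.{u + 1} a b).app F ≪≫ (pullCongrA AddCommGrpCat.{u + 1} h).app F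
  exact ⟨fun hc => IsCons.of_hom hc i.hom, fun hc => IsCons.of_hom hc i.inv⟩

/-- Base change of higher direct images of constructible sheaves. -/
theorem nonempty_pull_Rpush {X S X' S' : Scheme.{u}} {f : X ⟶ S} [IsProper f] {g : S' ⟶ S} {f' : X' ⟶ S'}
    {g' : X' ⟶ X} (c : IsPullback g' f' f g) {F : EtCoh.Ab X} (hF : EtCoh.IsTorsion F) (q : ℕ) :
    Nonempty ((EtCoh.pull g).obj ((EtCoh.Rpush f q).obj F) ≅ (EtCoh.Rpush f' q).obj ((EtCoh.pull g').obj F)) := by
  haveI := EtPBCProperLib.isIso_bcQ g f f' g' c F hF q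
  exact ⟨asIso (EtBC.bcQ f g f' g' c.w q F)⟩

/-- Covered by schemes over which the sheaf is constructible. -/
def Cov {S : Scheme.{u}} (F : EtCoh.Ab S) (A : Set S) : Prop :=
  ∃ (T : Scheme.{u}) (b : T ⟶ S) (_ : IsNoetherian T),
    A ⊆ Set.range b.base ∧ Cons T ((EtCoh.pull b).obj F)

theorem Cov.union {S : Scheme.{u}} {F : EtCoh.Ab S} {A B : Set S} (hA : Cov F A) (hB : Cov F B) : Cov F (A ∪ B) := by
  obtain ⟨T₁, b₁, hc₁, hA, h₁⟩ := hA
  obtain ⟨T₂, b₂, hc₂, hB, h₂⟩ := hB
  let fam : ULift.{u} Bool → Scheme.{u} := fun i => bif i.down then T₁ else T₂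
  let bb : ∀ i, fam i ⟶ S := fun ⟨i⟩ => match i with | true => b₁ | false => b₂
  haveI : ∀ i, IsNoetherian (fam i) := fun ⟨i⟩ => by cases i <;> assumption
  haveI : IsLocallyNoetherian (∐ fam) :=
    (isLocallyNoetherian_iff_openCover (sigmaOpenCover fam)).2 fun i => inferInstanceAs (IsLocallyNoetherian (fam i))
  haveI : CompactSpace ↥(∐ fam) := ⟨by
    have h : (Set.univ : Set ↥(∐ fam)) = ⋃ i, Set.range (Limits.Sigma.ι fam i).base := by
      refine (Set.eq_univ_of_forall fun x => ?_).symm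
      obtain ⟨i, y, rfl⟩ := (sigmaOpenCover fam).exists_eq x
      exact Set.mem_iUnion.2 ⟨i, y, rfl⟩
    rw [h]
    exact isCompact_iUnion fun i => isCompact_range (Limits.Sigma.ι fam i).continuous⟩
  have hh : ∀ i, Cons (fam i) ((EtCoh.pull (bb i)).obj F) := fun ⟨i⟩ => by cases i <;> assumption
  refine ⟨∐ fam, Limits.Sigma.desc bb, ⟨⟩, ?_, ?_⟩
  · have key : ∀ i, Set.range (bb i).base ⊆ Set.range (Limits.Sigma.desc bb).base := by
      rintro i _ ⟨t, rfl⟩
      refine ⟨(Limits.Sigma.ι fam i).base t, ?_⟩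
      rw [← Scheme.Hom.comp_apply, colimit.ι_desc]
      rfl
    exact Set.union_subset (hA.trans (key ⟨true⟩)) (hB.trans (key ⟨false⟩))
  · refine IsCons.of_open_cover (fun i => (Limits.Sigma.ι fam i).opensRange) ?_ fun i => ?_
    · refine eq_top_iff.2 fun x _ => ?_
      obtain ⟨i, y, rfl⟩ := (sigmaOpenCover fam).exists_eq x
      exact TopologicalSpace.Opens.mem_iSup.2 ⟨i, y, rfl⟩
    · let e := (Limits.Sigma.ι fam i).isoOpensRange
      refine (cons_pull_comp (Limits.Sigma.ι fam i).opensRange.ι (Limits.Sigma.desc bb) _ rfl F).2 ?_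
      refine (cons_pull_comp e.inv (bb i) _ ?_ F).1 (hh i).pull
      rw [← Limits.Sigma.ι_desc bb i, ← Category.assoc]
      exact congrArg (· ≫ _) (Scheme.Hom.isoOpensRange_inv_comp _)

theorem cons_of_cov {S : Scheme.{u}} [CompactSpace S] [QuasiSeparatedSpace S] {F : EtCoh.Ab S}
    (h : Cov F Set.univ) : Cons S F := by
  obtain ⟨T, b, _, hb, hc⟩ := h
  haveI : Surjective b := ⟨fun x => hb trivial⟩
  exact (cons_iff _).2 ((Groth.Agent.S0135.result b F).2 ((cons_iff _).1 hc))

theorem exists_open_of_constructible {T : Scheme.{u}} [IrreducibleSpace T] {E : Set T}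
    (hE : Topology.IsConstructible E) (h : genericPoint T ∈ E) :
    ∃ V : Set T, IsOpen V ∧ genericPoint T ∈ V ∧ V ⊆ E :=
  ⟨(closure Eᶜ)ᶜ, isClosed_closure.isOpen_compl, fun hc => genericPoint_mem_of_mem_closure hE.compl hc h,
    fun x hx => not_not.1 fun hxE => hx (subset_closure hxE)⟩

/-- Noetherian induction. -/
theorem cons_of_gen {S : Scheme.{u}} [IsNoetherian S] (F : EtCoh.Ab S)
    (H : ∀ (T : Scheme.{u}) [IsIntegral T] [IsNoetherian T] (i : T ⟶ S),
      ∃ (T' : Scheme.{u}) (b : T' ⟶ T) (_ : IsNoetherian T') (_ : LocallyOfFiniteType b),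
        genericPoint T ∈ Set.range b.base ∧ Cons T' ((EtCoh.pull (b ≫ i)).obj F)) :
    Cons S F := by
  suffices ∀ Z : TopologicalSpace.Closeds S, Cov F (Z : Set S) from cons_of_cov (this ⊤)
  intro Z
  induction Z using WellFoundedLT.induction with
  | _ Z ih =>
    by_cases hne : (Z : Set S).Nonempty
    swap
    · haveI : Finite (AddCommGrpCat.of (ULift.{u + 1} PUnit.{1})) := inferInstanceAs (Finite (ULift.{u + 1} PUnit.{1}))
      let U : S.Opens := ⊥
      haveI : IsEmpty ↥U.toScheme := ⟨fun x => x.2.elim⟩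
      haveI : IsLocallyNoetherian U.toScheme := isLocallyNoetherian_of_isOpenImmersion U.ι
      refine ⟨U.toScheme, U.ι, ⟨⟩, fun x hx => absurd ⟨x, hx⟩ hne, ?_⟩
      exact IsCons.of_open_cover (fun e : PEmpty.{u + 1} => e.elim)
        (TopologicalSpace.Opens.ext (Set.eq_univ_of_forall fun x => isEmptyElim x).symm).symm
        (fun e => e.elim)
    by_cases hirr : IsIrreducible (Z : Set S)
    · obtain ⟨T, i, hi, hT, hr⟩ := DevissLib.exists_integral_closed Z.isClosed hirr
      haveI := hi; haveI := hT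
      haveI : IsLocallyNoetherian T := LocallyOfFiniteType.isLocallyNoetherian i
      haveI : CompactSpace T := QuasiCompact.compactSpace_of_compactSpace i
      haveI : IsNoetherian T := ⟨⟩
      obtain ⟨T', b, hT', hb, hη, hc⟩ := H T i
      haveI := hT'; haveI := hb
      haveI : LocallyOfFinitePresentation b := LocallyOfFinitePresentation.iff_locallyOfFiniteType.2 inferInstance
      haveI : QuasiCompact b := quasiCompact_of_compactSpace b
      obtain ⟨V, hV, hηV, hVs⟩ := exists_open_of_constructible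
        (by rw [← Set.image_univ]; exact b.isConstructible_image Topology.IsConstructible.univ) hη
      let Z' : TopologicalSpace.Closeds S := ⟨i.base '' Vᶜ, i.isClosedEmbedding.isClosedMap _ hV.isClosed_compl⟩
      have hlt : Z' < Z := by
        refine lt_of_le_not_ge ?_ fun hle => ?_
        · intro x hx
          obtain ⟨t, -, rfl⟩ := hx
          exact hr.subset ⟨t, rfl⟩
        · obtain ⟨t, ht, he⟩ := hle (hr.subset ⟨genericPoint T, rfl⟩)
          exact ht (i.isClosedEmbedding.injective he ▸ hηV)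
      obtain ⟨T₂, b₂, h1, h3, h4⟩ := Cov.union ⟨T', b ≫ i, inferInstance, subset_rfl, hc⟩ (ih Z' hlt)
      refine ⟨T₂, b₂, h1, fun x hx => ?_, h4⟩
      obtain ⟨t, rfl⟩ : x ∈ Set.range i.base := hr.symm.subset hx
      by_cases ht : t ∈ V
      · obtain ⟨t', rfl⟩ := hVs ht
        exact h3 (Or.inl ⟨t', rfl⟩)
      · exact h3 (Or.inr ⟨t, ht, rfl⟩)
    · have hpre : ¬ IsPreirreducible (Z : Set S) := fun h => hirr ⟨hne, h⟩
      rw [isPreirreducible_iff_isClosed_union_isClosed] at hpre
      push_neg at hpre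
      obtain ⟨z₁, z₂, hz₁, hz₂, hsub, hn₁, hn₂⟩ := hpre
      have l₁ : (⟨(Z : Set S) ∩ z₁, Z.isClosed.inter hz₁⟩ : TopologicalSpace.Closeds S) < Z :=
        lt_of_le_not_ge (fun x hx => hx.1) fun hle => hn₁ fun x hx => (hle hx).2
      have l₂ : (⟨(Z : Set S) ∩ z₂, Z.isClosed.inter hz₂⟩ : TopologicalSpace.Closeds S) < Z :=
        lt_of_le_not_ge (fun x hx => hx.1) fun hle => hn₂ fun x hx => (hle hx).2
      obtain ⟨T₂, b₂, h1, h3, h4⟩ := Cov.union (ih _ l₁) (ih _ l₂)
      refine ⟨T₂, b₂, h1, fun x hx => h3 ?_, h4⟩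
      exact (hsub hx).imp (fun h => ⟨hx, h⟩) fun h => ⟨hx, h⟩

end EtProperConsLib
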