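import Groth.Agent.EtProperConsLib.Class
import Groth.Agent.EtPBCProperLib.Proper
import Groth.Agent.EtPBCCdLib.Dim
import Groth.Agent.EtPBCCdLib.Main
import Groth.Agent.FibDimLib.Semicont
import Groth.Agent.FibDimLib.FieldExt
import Groth.Agent.EtCurveConsLib.Descent

/-!
# Reduction of proper morphisms to families of curves
-/

set_option autoImplicit false
set_option linter.all false
set_option backward.isDefEq.respectTransparency false
set_option backward.isDefEq.respectTransparency.types false
set_option synthInstance.maxHeartbeats 400000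
set_option maxHeartbeats 1000000

universe u

open CategoryTheory CategoryTheory.Limits AlgebraicGeometry Opposite
open Groth.Agent Groth.Agent.EtShLib CohB1

attribute [local instance] EtSliceLib.pullExact

noncomputable section

namespace EtProperConsLib

open EtPBCProperLib (linePow linePowBase)

theorem isNoetherian_of_proper {X S : Scheme.{u}} [IsNoetherian S] (f : X ⟶ S) [IsProper f] : IsNoetherian X :=
  haveI : IsLocallyNoetherian X := LocallyOfFiniteType.isLocallyNoetherian f
  haveI : CompactSpace X := QuasiCompact.compactSpace_of_compactSpace f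
  ⟨⟩

/-- The hypothesis on families of curves. -/
def CurveHyp : Prop :=
  ∀ (X S : Scheme.{u}) [IsNoetherian S] (f : X ⟶ S) [IsProper f],
    (∀ y : S, topologicalKrullDim (f.fiber y) ≤ 1) → RGood f

/-- Good after any base change to a Noetherian scheme. -/
def RGoodU {X S : Scheme.{u}} (f : X ⟶ S) : Prop :=
  ∀ (X' S' : Scheme.{u}) (a : X' ⟶ X) (f' : X' ⟶ S') (b : S' ⟶ S),
    IsNoetherian S' → IsPullback a f' f b → RGood f'

variable {X Y S : Scheme.{u}}

theorem RGoodU.of_isPullback {f : X ⟶ S} (hf : RGoodU f) {X' S' : Scheme.{u}} {g' : X' ⟶ X} {f' : X' ⟶ S'}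
    {g : S' ⟶ S} (hp : IsPullback g' f' f g) : RGoodU f' := fun X'' S'' a f'' b hS h =>
  hf X'' S'' (a ≫ g') f'' (b ≫ g) hS (h.paste_horiz hp)

theorem rGoodU_of_isFinite (f : X ⟶ S) [IsFinite f] : RGoodU f := fun X' S' a f' b hS h => by
  haveI := hS
  haveI : IsFinite f' := MorphismProperty.of_isPullback h inferInstance
  exact rGood_of_isFinite f'

theorem RGoodU.comp {h : X ⟶ Y} (hh : RGoodU h) {g : Y ⟶ S} [IsProper g] (hg : RGoodU g) : RGoodU (h ≫ g) := by
  intro X' S' a f' b hS hp
  haveI := hS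
  let h' : X' ⟶ pullback g b := pullback.lift (a ≫ h) f' (by rw [Category.assoc, hp.w])
  have hh' : IsPullback a h' h (pullback.fst g b) :=
    IsPullback.of_bot (by rw [pullback.lift_snd]; exact hp) (pullback.lift_fst _ _ _).symm
      (IsPullback.of_hasPullback g b)
  have h2 := RGood.comp (hh _ _ a h' (pullback.fst g b) (isNoetherian_of_proper (pullback.snd g b)) hh')
    (hg _ _ (pullback.fst g b) (pullback.snd g b) b hS (IsPullback.of_hasPullback g b))
  rwa [pullback.lift_snd] at h2

theorem RGoodU.of_surjective {X'' : Scheme.{u}} {p : X'' ⟶ X} [Surjective p] (hp : RGoodU p) {f : X ⟶ S}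
    [IsProper f] (hpf : RGoodU (p ≫ f)) : RGoodU f := by
  intro X' S' a f' b hS hsq
  haveI := hS
  haveI : IsProper f' := MorphismProperty.of_isPullback hsq inferInstance
  haveI := isNoetherian_of_proper f'
  exact RGood.of_surjective (hp _ _ (pullback.fst p a) (pullback.snd p a) a inferInstance (IsPullback.of_hasPullback p a))
    (hpf _ _ (pullback.fst p a) (pullback.snd p a ≫ f') b hS ((IsPullback.of_hasPullback p a).paste_vert hsq))

theorem dim_fiber_line (y : S) : topologicalKrullDim ((ProjSpaceOver.toBase 1 S).fiber y) ≤ 1 := by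
  haveI : IsNoetherianRing (ULift.{u} ℤ) := isNoetherianRing_of_ringEquiv ℤ ULift.ringEquiv.symm
  haveI : IsProper (ProjSpace.toSpec 1 (ULift.{u} ℤ)) := ChowLib.isProper_toSpec 1
  haveI : IsProper (ProjSpaceOver.toBase 1 S) := MorphismProperty.pullback_snd _ _ ‹_›
  obtain ⟨Ω, _, _, ξ, hξ⟩ := exists_geometric_pt y
  rw [← hξ, ← EtPBCCdLib.dim_pullback_point (ProjSpaceOver.toBase 1 S) ξ]
  obtain ⟨q, hq, -⟩ := PicPnLib.exists_map 1 Ω
  have sq : IsPullback (pullback.fst (ProjSpaceOver.toBase 1 S) ξ ≫
      pullback.fst (ProjSpace.toSpec 1 (ULift.{u} ℤ)) (specULiftZIsTerminal.from S))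
      (pullback.snd (ProjSpaceOver.toBase 1 S) ξ) (ProjSpace.toSpec 1 (ULift.{u} ℤ)) (specULiftZIsTerminal.from _) := by
    rw [← specULiftZIsTerminal.hom_ext (ξ ≫ specULiftZIsTerminal.from S) (specULiftZIsTerminal.from _)]
    exact (IsPullback.of_hasPullback _ ξ).paste_horiz (IsPullback.of_hasPullback _ _)
  let e := sq.isoIsPullback _ _ hq
  exact (le_of_eq (e.schemeIsoToHomeo.isHomeomorph.topologicalKrullDim_eq)).trans (VBP1Lib.dim_line _).le

variable (hC : CurveHyp.{u})
include hC

theorem rGoodU_line (S : Scheme.{u}) : RGoodU (ProjSpaceOver.toBase 1 S) := by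
  haveI : IsNoetherianRing (ULift.{u} ℤ) := isNoetherianRing_of_ringEquiv ℤ ULift.ringEquiv.symm
  haveI : IsProper (ProjSpace.toSpec 1 (ULift.{u} ℤ)) := ChowLib.isProper_toSpec 1
  haveI : IsProper (ProjSpaceOver.toBase 1 S) := MorphismProperty.pullback_snd _ _ ‹_›
  intro X' S' a f' b hS hsq
  haveI := hS
  haveI : IsProper f' := MorphismProperty.of_isPullback hsq inferInstance
  refine hC X' S' f' fun y => ?_
  rw [FibDimLib.topologicalKrullDim_fiber_baseChange hsq]
  exact dim_fiber_line _

theorem rGoodU_linePow (n : ℕ) (S : Scheme.{u}) : IsProper (linePowBase n S) ∧ RGoodU (linePowBase n S) := by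
  induction n with
  | zero =>
    let l : S ⟶ linePow 0 S := WidePullback.lift (𝟙 S) (fun i => i.elim0) (fun i => i.elim0)
    haveI : IsIso (linePowBase 0 S) := ⟨l, WidePullback.hom_ext _ _ _ (fun i => i.elim0)
      (by rw [Category.assoc, WidePullback.lift_base, Category.comp_id, Category.id_comp]), WidePullback.lift_base _ _ _ _⟩
    exact ⟨inferInstance, rGoodU_of_isFinite _⟩
  | succ n ih =>
    obtain ⟨tr, hb, hsq⟩ := EtPBCProperLib.isPullback_linePow n S
    haveI : IsNoetherianRing (ULift.{u} ℤ) := isNoetherianRing_of_ringEquiv ℤ ULift.ringEquiv.symm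
    haveI : IsProper (ProjSpace.toSpec 1 (ULift.{u} ℤ)) := ChowLib.isProper_toSpec 1
    haveI : IsProper (ProjSpaceOver.toBase 1 S) := MorphismProperty.pullback_snd _ _ ‹_›
    haveI := ih.1
    haveI : IsProper tr := MorphismProperty.of_isPullback hsq inferInstance
    rw [← hb]
    exact ⟨inferInstance, ((rGoodU_line hC S).of_isPullback hsq).comp ih.2⟩

theorem rGoodU_projSpace (n : ℕ) (S : Scheme.{u}) : RGoodU (ProjSpaceOver.toBase n S) := by
  haveI : IsNoetherianRing (ULift.{u} ℤ) := isNoetherianRing_of_ringEquiv ℤ ULift.ringEquiv.symm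
  haveI : IsProper (ProjSpace.toSpec n (ULift.{u} ℤ)) := ChowLib.isProper_toSpec n
  haveI : IsProper (ProjSpaceOver.toBase n S) := MorphismProperty.pullback_snd _ _ ‹_›
  obtain ⟨φ, hφ, hs, h⟩ := Groth.Agent.S13502.result S n
  haveI := hφ
  haveI := hs
  refine RGoodU.of_surjective (rGoodU_of_isFinite φ) ?_
  rw [h]
  exact (rGoodU_linePow hC n S).2

/-- Proper morphisms over Noetherian schemes. -/
theorem rGood_of_isProper [IsNoetherian S] (f : X ⟶ S) [IsProper f] : RGood f := by
  suffices h : RGoodU f from h X S (𝟙 X) f (𝟙 _) ‹_› (IsPullback.of_id_fst)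
  obtain ⟨n, X'', π, j, hj, w, hπ, hs⟩ := Groth.Agent.S7409.result f
  haveI := hj
  haveI := hπ
  haveI := hs
  haveI : IsProper (j ≫ ProjSpaceOver.toBase n S) := by rw [w]; infer_instance
  haveI : IsProper j := IsProper.of_comp j (ProjSpaceOver.toBase n S)
  haveI : IsClosedImmersion j := IsClosedImmersion.of_isPreimmersion j j.isClosedMap.isClosed_range
  haveI : IsNoetherianRing (ULift.{u} ℤ) := isNoetherianRing_of_ringEquiv ℤ ULift.ringEquiv.symm
  haveI : IsProper (ProjSpace.toSpec n (ULift.{u} ℤ)) := ChowLib.isProper_toSpec n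
  haveI : IsProper (ProjSpaceOver.toBase n S) := MorphismProperty.pullback_snd _ _ ‹_›
  let t := ProjSpaceOver.toBase n S
  let γ : X'' ⟶ pullback t f := pullback.lift j π w
  haveI : IsClosedImmersion (γ ≫ pullback.fst t f) := by rw [pullback.lift_fst]; infer_instance
  haveI : IsClosedImmersion γ := IsClosedImmersion.of_comp γ (pullback.fst t f)
  have hgπ : RGoodU (γ ≫ pullback.snd t f) :=
    (rGoodU_of_isFinite γ).comp ((rGoodU_projSpace hC n _).of_isPullback (IsPullback.of_hasPullback t f))
  rw [pullback.lift_snd] at hgπ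
  refine RGoodU.of_surjective hgπ ?_
  rw [← w]
  exact (rGoodU_of_isFinite j).comp (rGoodU_projSpace hC n _)

end EtProperConsLib
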