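import Groth.Agent.EtProperConsLib.Gen
import Groth.Agent.EtProperConsLib.Dev
import Groth.Agent.EtCurveConsLib.Main

/-!
# Constructibility of higher direct images for families of curves
-/

set_option autoImplicit false
set_option linter.all false
set_option backward.isDefEq.respectTransparency false
set_option backward.isDefEq.respectTransparency.types false
set_option synthInstance.maxHeartbeats 400000
set_option maxHeartbeats 2000000

universe u

open CategoryTheory CategoryTheory.Limits AlgebraicGeometry Opposite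
open Groth.Agent Groth.Agent.EtShLib

attribute [local instance] EtSliceLib.pullExact

noncomputable section

namespace EtProperConsLib

theorem cons_const {X : Scheme.{u}} [CompactSpace X] [QuasiSeparatedSpace X] (M : Type) [AddCommGroup M] [Finite M] :
    Cons X (EtCoh.const X M) := by
  haveI : Finite (AddCommGrpCat.of (ULift.{u + 1} M)) := inferInstanceAs (Finite (ULift.{u + 1} M))
  exact isCons_const _

theorem cons_Rpush_biproduct {X S : Scheme.{u}} (f : X ⟶ S) (q : ℕ) {m : ℕ} (G : Fin m → EtCoh.Ab X)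
    (h : ∀ i, Cons S ((EtCoh.Rpush f q).obj (G i))) : Cons S ((EtCoh.Rpush f q).obj (⨁ G)) := by
  haveI : (EtCoh.Rpush f q).Additive := inferInstance
  exact IsCons.of_hom (isCons_biproduct _ h) ((EtCoh.Rpush f q).mapBiproduct G).inv

/-- Constant sheaves of finite groups from those of prime order. -/
theorem cons_Rpush_const_of_prime {X S : Scheme.{u}} [IsLocallyNoetherian S] (f : X ⟶ S) (q : ℕ)
    (h : ∀ ℓ : ℕ, ℓ.Prime → Cons S ((EtCoh.Rpush f q).obj (EtCoh.const X (ZMod ℓ)))) :
    ∀ (n : ℕ) (M : Type) [AddCommGroup M] [Finite M], Nat.card M = n →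
      Cons S ((EtCoh.Rpush f q).obj (EtCoh.const X M)) := by
  intro n
  induction n using Nat.strong_induction_on with
  | _ n ih =>
    intro M _ _ hn
    let T := constantSheaf X.smallEtaleTopology AddCommGrpCat.{u + 1}
    haveI : PreservesFiniteLimits T := by
      dsimp only [T, constantSheaf]
      infer_instance
    haveI : T.Additive := Functor.additive_of_preserves_binary_products T
    haveI : PreservesFiniteColimits T :=
      haveI : PreservesColimitsOfSize.{0, 0} T := (EtCore.constAdj X).leftAdjoint_preservesColimits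
      PreservesColimitsOfSize.preservesFiniteColimits _
    haveI : (EtCoh.Rpush f q).Additive := inferInstance
    by_cases h1 : Subsingleton M
    · have hA : IsZero (AddCommGrpCat.of (ULift.{u + 1} M)) :=
        haveI : Subsingleton (AddCommGrpCat.of (ULift.{u + 1} M)) := inferInstanceAs (Subsingleton (ULift.{u + 1} M))
        AddCommGrpCat.isZero_of_subsingleton _
      exact (Cons S).prop_of_isZero ((EtCoh.Rpush f q).map_isZero (T.map_isZero hA))
    haveI : Nontrivial M := not_subsingleton_iff_nontrivial.1 h1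
    have hne : Nat.card M ≠ 1 := Finite.one_lt_card.ne'
    obtain ⟨ℓ, hℓ, hdvd⟩ := Nat.exists_prime_and_dvd hne
    haveI := Fact.mk hℓ
    obtain ⟨x, hx⟩ := exists_prime_addOrderOf_dvd_card' (G := M) ℓ hdvd
    let i : ZMod ℓ →+ M := ZMod.lift ℓ ⟨zmultiplesHom M x, by
      show (ℓ : ℤ) • x = 0
      rw [natCast_zsmul, ← hx, addOrderOf_nsmul_eq_zero]⟩
    have hi : Function.Injective i := by
      refine (injective_iff_map_eq_zero i).2 fun a ha => ?_
      obtain ⟨a, rfl⟩ := ZMod.natCast_zmod_surjective a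
      rw [← Int.cast_natCast (R := ZMod ℓ), show i ((a : ℤ) : ZMod ℓ) = (a : ℤ) • x from ZMod.lift_coe _ _ _,
        natCast_zsmul, ← addOrderOf_dvd_iff_nsmul_eq_zero, hx] at ha
      exact (ZMod.natCast_eq_zero_iff _ _).2 ha
    let N := M ⧸ i.range
    have hN : Nat.card N < n := by
      have e := AddSubgroup.card_eq_card_quotient_mul_card_addSubgroup i.range
      haveI : Nontrivial i.range := ⟨⟨i 1, ⟨1, rfl⟩⟩, 0, fun e => one_ne_zero (hi ((congrArg Subtype.val e).trans i.map_zero.symm))⟩
      have h2 : 1 < Nat.card i.range := Finite.one_lt_card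
      have h3 : 0 < Nat.card (M ⧸ i.range) := Nat.card_pos
      rw [← hn, e]
      exact lt_mul_of_one_lt_right h3 h2
    let up : ∀ {A B : Type} [AddCommGroup A] [AddCommGroup B], (A →+ B) →
        (AddCommGrpCat.of (ULift.{u + 1} A) ⟶ AddCommGrpCat.of (ULift.{u + 1} B)) := fun g =>
      AddCommGrpCat.ofHom (AddMonoidHom.mk' (fun x => ULift.up (g x.down)) fun x y => ULift.ext _ _ (map_add g _ _))
    let g : M →+ N := QuotientAddGroup.mk' i.range
    let U : ShortComplex AddCommGrpCat.{u + 1} := ShortComplex.mk (up i) (up g) (by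
      refine ConcreteCategory.hom_ext _ _ fun a => ULift.ext _ _ ?_
      exact (QuotientAddGroup.eq_zero_iff _).2 ⟨_, rfl⟩)
    have hU : U.ShortExact :=
      { exact := (ShortComplex.ab_exact_iff _).2 fun a ha => by
          obtain ⟨b, hb⟩ := (QuotientAddGroup.eq_zero_iff (N := i.range) a.down).1 (congrArg ULift.down ha)
          exact ⟨ULift.up b, ULift.ext _ _ hb⟩
        mono_f := (AddCommGrpCat.mono_iff_injective _).2 fun a b e => ULift.ext _ _ (hi (congrArg ULift.down e))
        epi_g := (AddCommGrpCat.epi_iff_surjective _).2 fun y => by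
          obtain ⟨z, hz⟩ := QuotientAddGroup.mk'_surjective i.range y.down
          exact ⟨ULift.up z, ULift.ext _ _ hz⟩ }
    have hT := hU.map_of_exact T
    exact (Cons S).prop_X₂_of_exact ((EtCechInjLib.derDelta (EtCoh.push f)).exact₂ hT q) (h ℓ hℓ) (ih _ hN N rfl)

theorem cons_Rpush_elem {W S : Scheme.{u}} [IsNoetherian S] {g : W ⟶ S} (h : Elem g) (M : Type) [AddCommGroup M]
    [Finite M] (q : ℕ) : Cons S ((EtCoh.Rpush g q).obj (EtCoh.const W M)) := by
  rcases h with h | ⟨hP, hS, hc, hd⟩
  · haveI := h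
    haveI := isNoetherian_of_proper g
    exact rGood_of_isFinite g _ (cons_const M) q
  · haveI := hP; haveI := hS
    exact cons_Rpush_const_of_prime g q (fun ℓ hℓ => haveI := Fact.mk hℓ
      (cons_iff _).2 (EtCurveConsLib.isConstructible_Rpush_const g hc hd ℓ q)) _ M rfl

/-- Fibre dimension at most one. -/
def DimLE {X S : Scheme.{u}} (f : X ⟶ S) : Prop := ∀ y : S, topologicalKrullDim (f.fiber y) ≤ 1

theorem dimLE_comp_finite {Y X S : Scheme.{u}} (p : Y ⟶ X) [IsFinite p] (f : X ⟶ S) [IsProper f] (h : DimLE f) :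
    DimLE (p ≫ f) := fun y => by
  obtain ⟨Ω, _, _, ξ, hξ⟩ := exists_geometric_pt y
  rw [← hξ, ← EtPBCCdLib.dim_pullback_point (p ≫ f) ξ]
  let r : pullback (p ≫ f) ξ ⟶ pullback f ξ :=
    pullback.lift (pullback.fst _ _ ≫ p) (pullback.snd _ _) (by rw [Category.assoc, pullback.condition])
  have sq : IsPullback (pullback.fst (p ≫ f) ξ) r p (pullback.fst f ξ) :=
    IsPullback.of_bot (by rw [pullback.lift_snd]; exact IsPullback.of_hasPullback (p ≫ f) ξ)
      (pullback.lift_fst _ _ _).symm (IsPullback.of_hasPullback f ξ)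
  haveI : IsFinite r := MorphismProperty.of_isPullback sq ‹_›
  refine (AlgSpRegLib.topDim_le_of_lqf r).trans ?_
  rw [EtPBCCdLib.dim_pullback_point f ξ]
  exact h _

/-- The induction statement. -/
def Stmt (q : ℕ) : Prop :=
  ∀ (X S : Scheme.{u}) [IsNoetherian S] (f : X ⟶ S) [IsProper f], DimLE f →
    ∀ F : EtCoh.Ab X, Cons X F → Cons S ((EtCoh.Rpush f q).obj F)

theorem cons_of_mono_step {q : ℕ} (ih : ∀ j, j < q → Stmt.{u} j) {X S : Scheme.{u}} [IsNoetherian S]
    (f : X ⟶ S) [IsProper f] (hd : DimLE f) {F G : EtCoh.Ab X} (hG : Cons X G) (ι : F ⟶ G) [Mono ι]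
    (h : Cons S ((EtCoh.Rpush f q).obj G)) : Cons S ((EtCoh.Rpush f q).obj F) := by
  haveI := isNoetherian_of_proper f
  let U := ShortComplex.mk ι (cokernel.π ι) (cokernel.condition ι)
  have hU : U.ShortExact := { exact := ShortComplex.exact_of_g_is_cokernel U (cokernelIsCokernel ι) }
  let T := EtCechInjLib.derDelta (EtCoh.push f)
  rcases q with _ | q
  · haveI := T.mono₀ hU
    exact (Cons S).prop_of_mono ((T.F 0).map U.f) h
  · exact (Cons S).prop_X₂_of_exact (T.exact₁ hU q) (ih q (by omega) X S f hd _ (cons_of_epi (cokernel.π ι) hG)) h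

theorem cons_Rpush_push_finite (q : ℕ) {Y X S : Scheme.{u}} [IsNoetherian S] (p : Y ⟶ X) [IsFinite p] (f : X ⟶ S)
    {G : EtCoh.Ab Y} (h : Cons S ((EtCoh.Rpush (p ≫ f) q).obj G)) :
    Cons S ((EtCoh.Rpush f q).obj ((EtCoh.push p).obj G)) := by
  refine (Cons S).prop_of_iso ((EtCoh.Rpush f q).mapIso ((EtCoh.push p).rightDerivedZeroIsoSelf.app G)) ?_
  refine prop_of_comp (EtCoh.push f) (Cons S) (EtCoh.push p) (EtCoh.pushComp f p) q (fun a b hb _ => ?_) h
  exact (Cons S).prop_of_isZero ((EtCoh.Rpush f a).map_isZero (EtStrictAcycLib.isZero_Rpush_finite p G b hb))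

theorem isFinite_baseChange {W X T : Scheme.{u}} (ν : W ⟶ X) (f : X ⟶ T) [IsProper f] [IsFinite ν] :
    IsProper (ν ≫ f) := inferInstance

/-- Constant sheaves. -/
theorem cons_Rpush_const {q : ℕ} (ih : ∀ j, j < q → Stmt.{u} j) {X S : Scheme.{u}} [IsNoetherian S]
    (f : X ⟶ S) [IsProper f] (hd : DimLE f) (M : Type) [AddCommGroup M] [Finite M] :
    Cons S ((EtCoh.Rpush f q).obj (EtCoh.const X M)) := by
  haveI := isNoetherian_of_proper f
  refine cons_of_gen _ fun T _ _ i => ?_
  obtain ⟨V, hV, hηV, -⟩ := exists_isAffineOpen_mem_and_subset (X := T) (x := genericPoint T) (U := ⊤) trivial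
  haveI : IsAffine V.toScheme := hV
  haveI : Nonempty V.toScheme := ⟨⟨_, hηV⟩⟩
  haveI : IsIntegral V.toScheme := isIntegral_of_isOpenImmersion V.ι
  haveI : IsLocallyNoetherian V.toScheme := isLocallyNoetherian_of_isOpenImmersion V.ι
  haveI : IsNoetherian V.toScheme := ⟨⟩
  let fV := pullback.snd f (V.ι ≫ i)
  have hdV : ∀ y, topologicalKrullDim (fV.fiber y) ≤ 1 := fun y => by
    rw [FibDimLib.topologicalKrullDim_fiber_baseChange (IsPullback.of_hasPullback f (V.ι ≫ i))]
    exact hd _
  obtain ⟨T', hT', b, hb, m, W, ν, ⟨t₀, ht₀⟩, hν, hcov, hE⟩ := exists_spread_affine fV hdV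
  haveI := hT'; haveI := hb
  refine ⟨T', b ≫ V.ι, hT', inferInstance, ⟨t₀, ?_⟩, ?_⟩
  · rw [Scheme.Hom.comp_apply, ht₀]
    exact genericPoint_eq_of_isOpenImmersion V.ι
  let f' := pullback.snd fV b
  have sq : IsPullback (pullback.fst fV b ≫ pullback.fst f (V.ι ≫ i)) f' f ((b ≫ V.ι) ≫ i) := by
    rw [Category.assoc]
    exact (IsPullback.of_hasPullback fV b).paste_horiz (IsPullback.of_hasPullback f (V.ι ≫ i))
  obtain ⟨e⟩ := nonempty_pull_Rpush sq (isTorsion_of_cons (cons_const (X := X) M)) q
  refine (Cons T').prop_of_iso e.symm ((Cons T').prop_of_iso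
    ((EtCoh.Rpush f' q).mapIso (EtCore.pullConst (pullback.fst fV b ≫ pullback.fst f (V.ι ≫ i)) M)).symm ?_)
  haveI := isNoetherian_of_proper f'
  have hd' : DimLE f' := fun y => by
    rw [FibDimLib.topologicalKrullDim_fiber_baseChange sq]
    exact hd _
  haveI := hν
  haveI : ∀ l, IsNoetherian (W l) := fun l => isNoetherian_of_proper (ν l)
  let F₀ := EtCoh.const (pullback fV b) M
  let L := biproduct.lift fun l => (EtCoh.pullPushAdj (ν l)).unit.app F₀
  haveI : Mono L := ConsFiniteLib.mono_lift_unit ν hcov F₀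
  refine cons_of_mono_step ih f' hd' ?_ L ?_
  · refine isCons_biproduct _ fun l => (cons_iff _).2 ?_
    haveI : LocallyOfFinitePresentation (ν l) := LocallyOfFinitePresentation.iff_locallyOfFiniteType.2 inferInstance
    exact Groth.Agent.S0137.result (ν l) _ ((cons_iff _).1 (cons_const (X := pullback fV b) M).pull)
  · refine cons_Rpush_biproduct f' q _ fun l => cons_Rpush_push_finite q (ν l) f' ?_
    exact (Cons T').prop_of_iso ((EtCoh.Rpush (ν l ≫ f') q).mapIso (EtCore.pullConst (ν l) M)).symm
      (cons_Rpush_elem (hE l) M q)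

theorem stmt_all (q : ℕ) : Stmt.{u} q := by
  induction q using Nat.strong_induction_on with
  | _ q ih =>
    intro X S _ f _ hd F hF
    haveI := isNoetherian_of_proper f
    obtain ⟨m, Y, p, hp, hp', M, iM, fM, ι, hι⟩ := ConsEmbedLib.exists_embed ((cons_iff F).1 hF)
    haveI := hp; haveI := hι
    haveI : ∀ l, IsNoetherian (Y l) := fun l => isNoetherian_of_proper (p l)
    refine cons_of_mono_step ih f hd ?_ ι ?_
    · exact isCons_biproduct _ fun l => (cons_iff _).2
        (haveI := hp' l; Groth.Agent.S0137.result (p l) _ ((cons_iff _).1 (cons_const (M l))))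
    · exact cons_Rpush_biproduct f q _ fun l => cons_Rpush_push_finite q (p l) f
        (cons_Rpush_const ih (p l ≫ f) (dimLE_comp_finite (p l) f hd) (M l))

theorem curveHyp : CurveHyp.{u} := fun X S _ f _ hd F hF q => stmt_all q X S f hd F hF

/-- Higher direct images along proper morphisms over Noetherian schemes preserve constructibility. -/
theorem cons_Rpush_of_isProper {X S : Scheme.{u}} [IsNoetherian S] (f : X ⟶ S) [IsProper f] (F : EtCoh.Ab X)
    (hF : Cons X F) (q : ℕ) : Cons S ((EtCoh.Rpush f q).obj F) :=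
  rGood_of_isProper curveHyp f F hF q

end EtProperConsLib
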