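import Groth.Agent.ConsLib.PairProper
import Groth.Agent.ConsLib.General
import Groth.Agent.RichLib.LimitDescentFlat
import Groth.Agent.DepthLib.SmoothBCScheme
import Groth.Agent.FibDimLib.Semicont
import Groth.Agent.FibDimLib.FieldExt
import Groth.Agent.GISpreadLib.GeomProp
import Groth.Agent.SecNhdLib.ProperFibres
import Groth.Agent.SmoothCritLib.Point
import Groth.Agent.EtPBCCdLib.Dim
import Groth.Agent.AbSchLib.Flat
import Groth.Agent.S5935
import Groth.Agent.EtCurveConsLib.Descent

/-!
# The locus where a family becomes a family of curves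
-/

set_option autoImplicit false
set_option linter.all false
set_option backward.isDefEq.respectTransparency false
set_option backward.isDefEq.respectTransparency.types false
set_option maxHeartbeats 1000000

universe u

open CategoryTheory CategoryTheory.Limits AlgebraicGeometry RichLib.LimBC Groth.Agent

noncomputable section

namespace EtProperConsLib

open EtCurveConsLib

/-- The locus over which a proper flat morphism is a family of connected smooth curves, from one base change. -/
theorem exists_curve_open {X S X₀ S₀ : Scheme.{u}} (f : X ⟶ S) [IsProper f] [Smooth f]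
    (hconn : ∀ (Ω : Type u) [Field Ω] [IsAlgClosed Ω] (s : Spec (CommRingCat.of Ω) ⟶ S),
      ConnectedSpace ↥(pullback f s))
    (hdim : ∀ (Ω : Type u) [Field Ω] [IsAlgClosed Ω] (s : Spec (CommRingCat.of Ω) ⟶ S),
      topologicalKrullDim ↥(pullback f s) = 1)
    (f₀ : X₀ ⟶ S₀) [IsLocallyNoetherian S₀] [hP : IsProper f₀] [Flat f₀] [hfp : LocallyOfFinitePresentation f₀]
    {q : S ⟶ S₀} {p : X ⟶ X₀} (sq : IsPullback p f f₀ q) :
    ∃ (U : Scheme.{u}) (j : U ⟶ S₀) (_ : IsOpenImmersion j), (∀ s, q.base s ∈ Set.range j.base) ∧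
      Smooth (pullback.snd f₀ j) ∧
      (∀ (Ω : Type u) [Field Ω] [IsAlgClosed Ω] (s : Spec (CommRingCat.of Ω) ⟶ U),
        ConnectedSpace ↥(pullback (pullback.snd f₀ j) s)) ∧
      ∀ (Ω : Type u) [Field Ω] [IsAlgClosed Ω] (s : Spec (CommRingCat.of Ω) ⟶ U),
        topologicalKrullDim ↥(pullback (pullback.snd f₀ j) s) = 1 := by
  -- the smooth locus
  let V₁ : S₀.Opens := ⟨(f₀.base '' (f₀.smoothLocus : Set X₀)ᶜ)ᶜ,
    (f₀.isClosedMap _ f₀.smoothLocus.isOpen.isClosed_compl).isOpen_compl⟩
  have hV₁ : ∀ s, q.base s ∈ V₁ := by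
    rintro s ⟨z, hz, hzs⟩
    obtain ⟨w, hw, -⟩ := Scheme.Pullback.exists_preimage_pullback (f := f₀) (g := q) z s hzs
    obtain ⟨x, rfl⟩ := sq.isoPullback.hom.surjective w
    refine hz ?_
    rw [← hw, ← Scheme.Hom.comp_apply, sq.isoPullback_hom_fst]
    have h2 := DepthLib.smoothLocus_eq_preimage f₀ q f p sq (Or.inl ‹_›)
    rw [f.smoothLocus_eq_top] at h2
    exact h2.le (trivial : x ∈ (⊤ : X.Opens))
  obtain ⟨q₁, p₁, hq₁, sq₁⟩ := exists_restrict sq V₁ hV₁
  let f₁ := f₀ ∣_ V₁
  haveI : IsProper f₁ := MorphismProperty.of_isPullback (P := @IsProper) (isPullback_morphismRestrict f₀ V₁).flip hP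
  haveI : LocallyOfFinitePresentation f₁ :=
    MorphismProperty.of_isPullback (P := @LocallyOfFinitePresentation) (isPullback_morphismRestrict f₀ V₁).flip hfp
  haveI : Smooth f₁ := by
    rw [← Scheme.Hom.smoothLocus_eq_top_iff,
      DepthLib.smoothLocus_eq_preimage f₀ V₁.ι f₁ _ (isPullback_morphismRestrict f₀ V₁).flip (Or.inl ‹_›)]
    refine top_unique fun z _ => not_not.1 fun hz => z.2 ⟨_, hz, rfl⟩
  haveI : IsLocallyNoetherian (V₁ : Scheme.{u}) := isLocallyNoetherian_of_isOpenImmersion V₁.ι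
  haveI : GeometricallyReduced f₁ := AbSchLib.geometricallyReduced_of_smooth f₁
  let E : Set (V₁ : Scheme.{u}) :=
    {y | topologicalKrullDim (f₁.fiber y) ≤ 1} ∩ {y | 0 < topologicalKrullDim (f₁.fiber y)} ∩
      {y | GeometricallyReduced (f₁.fiberToSpecResidueField y) ∧ MoreMor.nGeomConnComp f₁ y = (1 : ℕ)}
  have hE : IsOpen E := ((FibDimLib.isOpen_fiber_dim_le f₁ f₁.isClosedMap 1).inter
    (FibDimLib.isOpen_lt_fiber_dim f₁ (fun x => SmoothCritLib.isUnivOpenAt_of_mem_smoothLocus f₁ x
      (by rw [f₁.smoothLocus_eq_top]; trivial)) 0)).inter (Groth.Agent.S5935.result f₁ 1 le_rfl)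
  have hqE : ∀ s, q₁.base s ∈ E := by
    intro s
    let K := AlgebraicClosure (S.residueField s)
    let ξ : Spec (CommRingCat.of K) ⟶ S :=
      Spec.map (CommRingCat.ofHom (algebraMap (S.residueField s) K)) ≫ S.fromSpecResidueField s
    have hξ : ξ.base default = s := Scheme.fromSpecResidueField_apply s _
    have hd : topologicalKrullDim (f₁.fiber (q₁.base s)) = 1 := by
      rw [← FibDimLib.topologicalKrullDim_fiber_baseChange sq₁, ← hξ, ← EtPBCCdLib.dim_pullback_point f ξ]
      exact hdim K ξ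
    refine ⟨⟨hd.le, ?_⟩, MorphismProperty.pullback_snd _ _ ‹GeometricallyReduced f₁›, ?_⟩
    · show (0 : WithBot ℕ∞) < _
      rw [hd]; exact zero_lt_one
    rw [← SecNhdLib.nGeomConnComp_baseChange sq₁, Nat.cast_one]
    refine GISpreadLib.card_connectedComponents_eq_one.2 ?_
    let L := SeparableClosure (S.residueField s)
    let τ : L →ₐ[S.residueField s] K := IsSepClosed.lift
    let a := Spec.map (CommRingCat.ofHom (algebraMap (S.residueField s) L))
    have sqF : IsPullback (pullback.fst (f.fiberToSpecResidueField s) a ≫ f.fiberι s)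
        (pullback.snd (f.fiberToSpecResidueField s) a) f (a ≫ S.fromSpecResidueField s) :=
      (IsPullback.of_hasPullback _ _).paste_horiz (IsPullback.of_hasPullback _ _)
    let b : Spec (CommRingCat.of K) ⟶ Spec (CommRingCat.of L) := Spec.map (CommRingCat.ofHom τ.toRingHom)
    have hb : b ≫ a ≫ S.fromSpecResidueField s = ξ := by
      show _ ≫ _ ≫ _ = Spec.map _ ≫ _
      rw [← Spec.map_comp_assoc]
      exact congrArg (fun t => Spec.map t ≫ S.fromSpecResidueField s) (CommRingCat.hom_ext τ.comp_algebraMap)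
    haveI : Surjective b := ⟨fun z => ⟨default, Subsingleton.elim (α := PrimeSpectrum L) _ _⟩⟩
    let g := pullback.snd f (a ≫ S.fromSpecResidueField s)
    haveI : Surjective (pullback.fst g b) := MorphismProperty.pullback_fst _ _ ‹Surjective b›
    haveI hc := hconn K (b ≫ a ≫ S.fromSpecResidueField s)
    haveI : ConnectedSpace ↥(pullback g b) :=
      (Scheme.homeoOfIso (pullbackLeftPullbackSndIso f _ b)).connectedSpace_iff.2 hc
    haveI : ConnectedSpace ↥(pullback f (a ≫ S.fromSpecResidueField s)) :=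
      (pullback.fst g b).surjective.connectedSpace (pullback.fst g b).continuous
    exact (Scheme.homeoOfIso sqF.isoPullback).connectedSpace_iff.2 this
  let V₂ : (V₁ : Scheme.{u}).Opens := ⟨E, hE⟩
  obtain ⟨q₂, p₂, hq₂, sq₂⟩ := exists_restrict sq₁ V₂ hqE
  let f₂ := f₁ ∣_ V₂
  have sqV := (isPullback_morphismRestrict f₁ V₂).flip
  haveI : GeometricallyConnected f₂ := GISpreadLib.geometricallyConnected_restrict f₁ V₂ fun y hy =>
    GISpreadLib.card_connectedComponents_eq_one.1 (hy.2.2.trans Nat.cast_one)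
  have hsm : Smooth f₂ := MorphismProperty.of_isPullback (P := @Smooth) sqV ‹_›
  haveI : LocallyOfFiniteType f₂ := MorphismProperty.of_isPullback (P := @LocallyOfFiniteType) sqV inferInstance
  have sqT : IsPullback ((f₁ ⁻¹ᵁ V₂).ι ≫ (f₀ ⁻¹ᵁ V₁).ι) f₂ f₀ (V₂.ι ≫ V₁.ι) :=
    sqV.paste_horiz (isPullback_morphismRestrict f₀ V₁).flip
  let g := pullback.snd f₀ (V₂.ι ≫ V₁.ι)
  have hg : g = sqT.isoPullback.inv ≫ f₂ := sqT.isoPullback_inv_snd.symm
  haveI : GeometricallyConnected g := by
    rw [hg, MorphismProperty.cancel_left_of_respectsIso (P := @GeometricallyConnected)]; infer_instance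
  refine ⟨V₂.toScheme, V₂.ι ≫ V₁.ι, inferInstance, fun s => ⟨q₂.base s, ?_⟩, ?_, fun Ω _ _ s => ?_, fun Ω _ _ s => ?_⟩
  · rw [← Scheme.Hom.comp_apply, reassoc_of% hq₂, hq₁]
  · show Smooth g
    rw [hg, MorphismProperty.cancel_left_of_respectsIso (P := @Smooth)]; exact hsm
  · haveI : GeometricallyConnected (pullback.snd g s) := MorphismProperty.pullback_snd _ _ ‹_›
    exact GeometricallyConnected.connectedSpace_of_subsingleton (pullback.snd g s)
  · haveI : LocallyOfFiniteType g := inferInstance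
    rw [EtPBCCdLib.dim_pullback_point g s,
      FibDimLib.topologicalKrullDim_fiber_baseChange (IsPullback.of_hasPullback f₀ (V₂.ι ≫ V₁.ι))]
    have h := (show V₂.ι.base (s.base default) ∈ E from (s.base default).2).1
    have e := FibDimLib.topologicalKrullDim_fiber_baseChange (isPullback_morphismRestrict f₀ V₁).flip
      (V₂.ι.base (s.base default))
    rw [Scheme.Hom.comp_apply, ← e]
    exact le_antisymm h.1 (one_le_of_pos _ h.2)

end EtProperConsLib
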