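import Groth.Agent.EtProperConsLib.Curve
import Groth.Agent.ConsEmbedLib.Colim
import Groth.Agent.EtContLib.Descend
import Groth.Agent.ConsLib.PairProper
import Groth.Agent.S0138

/-!
# Constructible sheaves on proper schemes over an arbitrary base come from Noetherian models
-/

set_option autoImplicit false
set_option linter.all false
set_option backward.isDefEq.respectTransparency false
set_option backward.isDefEq.respectTransparency.types false
set_option synthInstance.maxHeartbeats 400000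
set_option maxHeartbeats 2000000

universe u

open CategoryTheory CategoryTheory.Limits AlgebraicGeometry Opposite RichLib.LimBC
open Groth.Agent Groth.Agent.EtShLib DescSecLib EtContLib

attribute [local instance] EtSliceLib.pullExact

noncomputable section

namespace EtProperConsLib

/-- Inverse image of `j_! M`. -/
theorem nonempty_pull_extZeroConst {X Y : Scheme.{u}} (f : X ⟶ Y) (U : Y.Etale) (M : Type) [AddCommGroup M] :
    Nonempty ((EtCoh.pull f).obj (EtPBC.extZeroConst U M) ≅ EtPBC.extZeroConst ((EtCoh.bc f).obj U) M) :=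
  ⟨((((extConstAdj U).comp (EtCoh.pullPushAdj f)).ofNatIsoRight
      (NatIso.ofComponents (fun G => Iso.refl _))).leftAdjointUniq (extConstAdj ((EtCoh.bc f).obj U))).app _⟩

theorem nonempty_extZeroConst_iso {X : Scheme.{u}} {U U' : X.Etale} (i : U ≅ U') (M : Type) [AddCommGroup M] :
    Nonempty (EtPBC.extZeroConst U M ≅ EtPBC.extZeroConst U' M) := by
  obtain ⟨a, ha⟩ := exists_extConst_hom U M (extConstSec U' M ≫ (EtPBC.extZeroConst U' M).obj.map i.hom.op)
  obtain ⟨b, hb⟩ := exists_extConst_hom U' M (extConstSec U M ≫ (EtPBC.extZeroConst U M).obj.map i.inv.op)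
  refine ⟨⟨a, b, extConst_hom_ext U M ?_, extConst_hom_ext U' M ?_⟩⟩
  · show extConstSec U M ≫ a.hom.app (op U) ≫ b.hom.app (op U) = extConstSec U M ≫ 𝟙 _
    rw [← Category.assoc, ha, Category.assoc, b.hom.naturality, ← Category.assoc, hb, Category.assoc,
      ← Functor.map_comp, ← op_comp, i.hom_inv_id, op_id, CategoryTheory.Functor.map_id]
  · show extConstSec U' M ≫ b.hom.app (op U') ≫ a.hom.app (op U') = extConstSec U' M ≫ 𝟙 _
    rw [← Category.assoc, hb, Category.assoc, a.hom.naturality, ← Category.assoc, ha, Category.assoc,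
      ← Functor.map_comp, ← op_comp, i.inv_hom_id, op_id, CategoryTheory.Functor.map_id]

theorem nonempty_pull_id (X : Scheme.{u}) : Nonempty (EtCoh.pull (𝟙 X) ≅ 𝟭 (EtCoh.Ab X)) :=
  ⟨((Adjunction.id (C := EtCoh.Ab X)).ofNatIsoRight (etPid X) |>.leftAdjointUniq (EtCoh.pullPushAdj (𝟙 X))).symm⟩

theorem exists_killed {X : Scheme.{u}} [CompactSpace X] [QuasiSeparatedSpace X] {F : EtCoh.Ab X}
    (hF : Cons X F) : ∃ n : ℕ, 0 < n ∧ EtCoh.KilledBy n F := by
  obtain ⟨m, Y, f, hf, hf', M, iM, fM, ι, hι⟩ := ConsEmbedLib.exists_embed ((cons_iff F).1 hF)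
  let n := ∏ i, Nat.card (M i)
  have hn : 0 < n := Finset.prod_pos fun i _ => Nat.card_pos
  refine ⟨n, hn, (ConsFiniteLib.killedBy_iff n F).2 ?_⟩
  rw [← cancel_mono ι, zero_comp]
  refine biproduct.hom_ext _ _ fun i => ?_
  rw [zero_comp, Preadditive.nsmul_comp, Category.id_comp, Preadditive.nsmul_comp]
  have h0 : n • 𝟙 (AddCommGrpCat.of (ULift.{u + 1} (M i))) = 0 := ConcreteCategory.hom_ext _ _ fun x => by
    show AddCommGrpCat.homAddEquiv (n • 𝟙 _) x = _
    rw [map_nsmul, AddMonoidHom.nsmul_apply]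
    obtain ⟨c, hc⟩ : Nat.card (M i) ∣ n := Finset.dvd_prod_of_mem _ (Finset.mem_univ i)
    refine ULift.ext _ _ ?_
    show n • x.down = 0
    rw [hc, mul_comm, mul_smul, card_nsmul_eq_zero', smul_zero]
  haveI : (EtCore.gsec (Y i)).Additive := ⟨fun {X Y f g} => rfl⟩
  haveI : (constantSheaf (Y i).smallEtaleTopology AddCommGrpCat.{u + 1}).Additive :=
    (EtCore.constAdj (Y i)).left_adjoint_additive
  have h1 : n • 𝟙 ((EtCoh.push (f i)).obj (EtCoh.const (Y i) (M i))) = 0 := by
    rw [← CategoryTheory.Functor.map_id (EtCoh.push (f i)), ← CategoryTheory.Functor.map_id (constantSheaf _ _),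
      ← Functor.map_nsmul, ← Functor.map_nsmul, h0, Functor.map_zero, Functor.map_zero]
  rw [← Category.comp_id (ι ≫ biproduct.π _ i), ← Preadditive.nsmul_comp, Preadditive.nsmul_comp,
    ← Preadditive.comp_nsmul, h1, comp_zero]

theorem cons_extZeroConst {X : Scheme.{u}} [CompactSpace X] [QuasiSeparatedSpace X] (U : X.Etale) [CompactSpace U.left]
    [QuasiSeparatedSpace U.left] (M : Type) [AddCommGroup M] [Finite M] : Cons X (EtPBC.extZeroConst U M) :=
  isCons_extConst U M

/-- The pullback of a morphism of sheaves along a map of schemes over a base. -/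
theorem nonempty_arrow_iso {S : Scheme.{u}} {T U : Over S} (π : T ⟶ U) {E P : EtCoh.Ab S}
    (φ : (EtCoh.pull T.hom).obj E ⟶ (EtCoh.pull T.hom).obj P)
    (b : E ⟶ (EtCoh.push U.hom).obj ((EtCoh.pull U.hom).obj P))
    (hb : b ≫ ConsEmbedLib.KMap P π = (EtCoh.pullPushAdj T.hom).homEquiv _ _ φ) :
    Nonempty ((EtCoh.pull π.left).obj (cokernel (((EtCoh.pullPushAdj U.hom).homEquiv _ _).symm b)) ≅ cokernel φ) := by
  let φ' := ((EtCoh.pullPushAdj U.hom).homEquiv _ _).symm b
  let θE := adjL π.left (etSys.k E π)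
  let θP := adjL π.left (etSys.k P π)
  haveI : IsIso θE := isIso_theta E π
  haveI : IsIso θP := isIso_theta P π
  have hw : (EtCoh.pull π.left).map φ' ≫ θP = θE ≫ φ := by
    show (EtCoh.pull π.left).map φ' ≫ ((EtCoh.pullPushAdj π.left).homEquiv _ _).symm (etSys.k P π) =
      ((EtCoh.pullPushAdj π.left).homEquiv _ _).symm (etSys.k E π) ≫ φ
    refine ((EtCoh.pullPushAdj π.left).homEquiv_naturality_left_symm φ' (etSys.k P π)).symm.trans
      (Eq.trans ?_ ((EtCoh.pullPushAdj π.left).homEquiv_naturality_right_symm (etSys.k E π) φ))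
    refine congrArg ((EtCoh.pullPushAdj π.left).homEquiv _ _).symm ?_
    refine ((EtCoh.pullPushAdj U.hom).homEquiv _ _).injective ?_
    refine ((EtCoh.pullPushAdj U.hom).homEquiv_naturality_right φ' (etSys.k P π)).trans
      (Eq.trans ?_ ((EtCoh.pullPushAdj U.hom).homEquiv_naturality_right (etSys.k E π) ((EtCoh.push π.left).map φ)).symm)
    refine (congrArg (· ≫ (EtCoh.push U.hom).map (etSys.k P π)) (Equiv.apply_symm_apply _ b)).trans ?_
    refine Eq.trans ?_ (congrArg (· ≫ (EtCoh.push U.hom).map ((EtCoh.push π.left).map φ)) (etSys.homEquiv_k E π)).symm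
    rw [ConsEmbedLib.KMap, ← Category.assoc, IsIso.comp_inv_eq] at hb
    refine hb.trans ?_
    rw [Adjunction.homEquiv_unit, Category.assoc]
    refine (congrArg ((EtCoh.pullPushAdj T.hom).unit.app E ≫ ·) ((etPc π.left U.hom T.hom (Over.w π)).naturality φ)).trans ?_
    exact (Category.assoc _ _ _).symm
  haveI : (EtCoh.pull π.left).Additive := (EtCoh.pullPushAdj π.left).left_adjoint_additive
  haveI : PreservesColimitsOfSize.{0, 0} (EtCoh.pull π.left) := (EtCoh.pullPushAdj π.left).leftAdjoint_preservesColimits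
  exact ⟨PreservesCokernel.iso (EtCoh.pull π.left) φ' ≪≫ cokernel.mapIso _ _ (asIso θE) (asIso θP) hw⟩

section Tail

variable {α : Type u} [Preorder α] [IsDirected α (· ≤ ·)] (k : α)

/-- The indices above a given one. -/
abbrev Above : Type u := {x : α // k ≤ x}

instance : Nonempty (Above k) := ⟨⟨k, le_rfl⟩⟩

instance : IsDirected (Above k) (· ≤ ·) :=
  ⟨fun a b => by
    obtain ⟨c, hac, hbc⟩ := exists_ge_ge a.1 b.1
    exact ⟨⟨c, a.2.trans hac⟩, hac, hbc⟩⟩

/-- The inclusion of the tail. -/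
def aboveToOver : (Above k)ᵒᵖ ⥤ Over (op k) where
  obj x := Over.mk (homOfLE x.unop.2).op
  map {x y} f := Over.homMk (homOfLE (leOfHom f.unop)).op (Subsingleton.elim _ _)
  map_id x := Over.OverMorphism.ext (Subsingleton.elim _ _)
  map_comp f g := Over.OverMorphism.ext (Subsingleton.elim _ _)

/-- The tail is the comma category. -/
def aboveEquiv : (Above k)ᵒᵖ ≌ Over (op k) where
  functor := aboveToOver k
  inverse :=
    { obj := fun φ => op ⟨φ.left.unop, leOfHom φ.hom.unop⟩
      map := fun {φ ψ} f => (homOfLE (leOfHom f.left.unop)).op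
      map_id := fun _ => Subsingleton.elim _ _
      map_comp := fun _ _ => Subsingleton.elim _ _ }
  unitIso := NatIso.ofComponents (fun x => Iso.refl _) (fun _ => Subsingleton.elim _ _)
  counitIso := NatIso.ofComponents (fun φ => Over.isoMk (Iso.refl _) (Subsingleton.elim _ _))
    (fun _ => Over.OverMorphism.ext (Subsingleton.elim _ _))
  functor_unitIso_comp _ := Over.OverMorphism.ext (Subsingleton.elim _ _)

end Tail

/-- Constructibility of higher direct images for the base change of a proper morphism from a stage. -/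
theorem cons_Rpush_of_stage {α : Type u} [Preorder α] [IsDirected α (· ≤ ·)] [Nonempty α]
    {D : αᵒᵖ ⥤ Scheme.{u}} {c : Cone D} (hc : IsLimit c) [∀ (i j : αᵒᵖ) (a : i ⟶ j), IsAffineHom (D.map a)]
    (hN : ∀ i, IsNoetherian (D.obj i)) (k₁ : αᵒᵖ) {X₁ : Scheme.{u}} (f₁ : X₁ ⟶ D.obj k₁) [IsProper f₁]
    (F : EtCoh.Ab (pullback f₁ (c.π.app k₁))) (hF : Cons _ F) (q : ℕ) :
    Cons c.pt ((EtCoh.Rpush (pullback.snd f₁ (c.π.app k₁)) q).obj F) := by
  classical
  haveI := hN
  haveI : IsAffineHom (c.π.app k₁) := isAffineHom_π_app D c hc k₁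
  haveI : CompactSpace c.pt := QuasiCompact.compactSpace_of_compactSpace (c.π.app k₁)
  haveI : QuasiSeparatedSpace c.pt := quasiSeparatedSpace_of_quasiSeparated (c.π.app k₁)
  let B := pb (ofStage D c hc k₁) f₁
  haveI : ∀ i j (a : i ⟶ j), IsAffineHom (B.D.map a) := fun _ _ a => B.affine_map a
  haveI : CompactSpace X₁ := QuasiCompact.compactSpace_of_compactSpace f₁
  haveI : QuasiSeparatedSpace X₁ := quasiSeparatedSpace_of_quasiSeparated f₁
  haveI : ∀ i, CompactSpace (B.D.obj i) := fun i => B.compactSpace_obj i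
  haveI : ∀ i, QuasiSeparatedSpace (B.D.obj i) := fun i => B.quasiSeparatedSpace_obj i
  haveI : CompactSpace ↥(((Functor.const αᵒᵖ).obj c.pt).obj k₁) := ‹CompactSpace c.pt›
  haveI : QuasiSeparatedSpace ↥(((Functor.const αᵒᵖ).obj c.pt).obj k₁) := ‹QuasiSeparatedSpace c.pt›
  haveI : CompactSpace ↥(pullback f₁ (c.π.app k₁)) := QuasiCompact.compactSpace_of_compactSpace (pullback.snd f₁ (c.π.app k₁))
  haveI : QuasiSeparatedSpace ↥(pullback f₁ (c.π.app k₁)) :=
    quasiSeparatedSpace_of_quasiSeparated (pullback.snd f₁ (c.π.app k₁))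
  obtain ⟨n, hn, hFn⟩ := exists_killed hF
  haveI : NeZero n := ⟨hn.ne'⟩
  obtain ⟨na, nb, V, U, hV, hU, φ₀, ⟨eF⟩⟩ := Groth.Agent.S0138.result (pullback f₁ (c.π.app k₁)) n hn F ((cons_iff F).1 hF) hFn
  let W : Fin na ⊕ Fin nb → (pullback f₁ (c.π.app k₁)).Etale := Sum.elim V U
  haveI hW : ∀ t, IsAffine (W t).left := fun t => by cases t <;> [exact hV _; exact hU _]
  have hobj : ∀ t, ∃ A : Obj B.D, CompactSpace A.V.left ∧ QuasiSeparatedSpace A.V.left ∧
      Nonempty ((uF B.c).obj A ≅ W t) := fun t => EtContLib.exists_obj B.hc (W t)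
  choose A hAc hAq hAe using hobj
  obtain ⟨φk, hφk⟩ := IsCofiltered.inf_objs_exists (Finset.univ.image fun t => (A t).i)
  have a : ∀ t, φk ⟶ (A t).i := fun t => (hφk (Finset.mem_image_of_mem _ (Finset.mem_univ t))).some
  let Xk := pullback f₁ (D.map φk.hom)
  let fk : Xk ⟶ D.obj φk.left := pullback.snd f₁ (D.map φk.hom)
  let p : pullback f₁ (c.π.app k₁) ⟶ Xk := B.c.π.app φk
  let W' : Fin na ⊕ Fin nb → Xk.Etale := fun t => (bcObj (A t) (a t)).V
  haveI : ∀ t, CompactSpace (W' t).left := fun t => haveI := hAc t; compactSpace_bcObj (A t) (a t)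
  haveI : ∀ t, QuasiSeparatedSpace (W' t).left := fun t => haveI := hAq t; quasiSeparatedSpace_bcObj (A t) (a t)
  have hWe : ∀ t, Nonempty ((EtCoh.bc p).obj (W' t) ≅ W t) := fun t => by
    obtain ⟨e⟩ := hAe t
    haveI := isIso_uF_cart (c := B.c) (A t) (a t)
    exact ⟨asIso ((uF B.c).map (cart (A t) (a t))) ≪≫ e⟩
  haveI : IsProper fk := inferInstance
  haveI : IsNoetherian Xk := isNoetherian_of_proper fk
  -- the free sheaves at the stage
  let E := ⨁ fun j : Fin na => EtPBC.extZeroConst (W' (Sum.inl j)) (ZMod n)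
  let P := ⨁ fun j : Fin nb => EtPBC.extZeroConst (W' (Sum.inr j)) (ZMod n)
  haveI : (EtCoh.pull p).Additive := (EtCoh.pullPushAdj p).left_adjoint_additive
  have hz : ∀ t, Nonempty ((EtCoh.pull p).obj (EtPBC.extZeroConst (W' t) (ZMod n)) ≅ EtPBC.extZeroConst (W t) (ZMod n)) := fun t => by
    obtain ⟨e⟩ := nonempty_pull_extZeroConst p (W' t) (ZMod n)
    obtain ⟨e'⟩ := hWe t
    have h2 : ∀ {U U' : (pullback f₁ (c.π.app k₁)).Etale} (i : U ≅ U'),
        Nonempty (EtPBC.extZeroConst U (ZMod n) ≅ EtPBC.extZeroConst U' (ZMod n)) := fun i => nonempty_extZeroConst_iso i _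
    obtain ⟨e''⟩ := h2 e'
    exact ⟨e ≪≫ e''⟩
  have ez := fun t => (hz t).some
  let eE : (EtCoh.pull p).obj E ≅ ⨁ fun j => EtPBC.extZeroConst (V j) (ZMod n) :=
    (EtCoh.pull p).mapBiproduct _ ≪≫ biproduct.mapIso fun j => ez (Sum.inl j)
  let eP : (EtCoh.pull p).obj P ≅ ⨁ fun j => EtPBC.extZeroConst (U j) (ZMod n) :=
    (EtCoh.pull p).mapBiproduct _ ≪≫ biproduct.mapIso fun j => ez (Sum.inr j)
  let φ : (EtCoh.pull p).obj E ⟶ (EtCoh.pull p).obj P := eE.hom ≫ φ₀ ≫ eP.inv
  have hE : EtPBC.IsConstructible E := (cons_iff _).1 (isCons_biproduct _ fun j => cons_extZeroConst _ _)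
  have hP : EtPBC.IsConstructible P := (cons_iff _).1 (isCons_biproduct _ fun j => cons_extZeroConst _ _)
  -- the tail over the stage
  let e : (Above φk.left.unop)ᵒᵖ ≌ Over φk.left := aboveEquiv φk.left.unop
  let C := pb (ofStage D c hc φk.left) fk
  let DT : (Above φk.left.unop)ᵒᵖ ⥤ Scheme.{u} := e.functor ⋙ C.D
  let cT : Cone DT := C.c.whisker e.functor
  have hcT : IsLimit cT := C.hc.whiskerEquivalence e
  let DO : (Above φk.left.unop)ᵒᵖ ⥤ Over Xk :=
    { obj := fun i => Over.mk (C.t (e.functor.obj i))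
      map := fun g => Over.homMk (C.D.map (e.functor.map g)) (C.w _)
      map_id := fun i => Over.OverMorphism.ext (DT.map_id i)
      map_comp := fun g h => Over.OverMorphism.ext (DT.map_comp g h) }
  let cO : Cone DO :=
    { pt := Over.mk C.s
      π :=
      { app := fun i => Over.homMk (cT.π.app i) (C.hs _)
        naturality := fun i j g => Over.OverMorphism.ext (cT.π.naturality g) } }
  haveI : IsConnected (Above φk.left.unop)ᵒᵖ := IsCofiltered.isConnected _
  have hcO : IsLimit cO := isLimitOfReflects (Over.forget Xk) hcT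
  haveI : ∀ (i j : (Above φk.left.unop)ᵒᵖ) (m : i ⟶ j), IsAffineHom (DO.map m).left :=
    fun i j m => C.affine_map (e.functor.map m)
  haveI : ∀ i, IsAffineHom (DO.obj i).hom := fun i => C.affine _
  have wk : c.π.app φk.left ≫ D.map φk.hom = c.π.app k₁ := c.w φk.hom
  have sqp : IsPullback p (pullback.snd f₁ (c.π.app k₁)) fk (c.π.app φk.left) :=
    isPullback_cone (ofStage D c hc k₁) f₁ φk
  let T : Over Xk := Over.mk p
  let g : T ⟶ cO.pt := Over.homMk sqp.isoPullback.hom sqp.isoPullback_hom_fst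
  haveI : IsIso g.left := inferInstanceAs (IsIso sqp.isoPullback.hom)
  haveI : IsIso g := (isIso_iff_of_reflects_iso g (Over.forget Xk)).1 ‹_›
  haveI : IsIso (ConsEmbedLib.KMap P g) := inferInstanceAs (IsIso ((ConsEmbedLib.K P).map g.op))
  let a₀ : E ⟶ ConsEmbedLib.KObj P T := (EtCoh.pullPushAdj p).homEquiv _ _ φ
  obtain ⟨i, b, hb⟩ := ConsEmbedLib.exists_factor P DO cO hcO hE (a₀ ≫ inv (ConsEmbedLib.KMap P g))
  let π : T ⟶ DO.obj (op i) := g ≫ cO.π.app (op i)
  have hb' : b ≫ ConsEmbedLib.KMap P π = (EtCoh.pullPushAdj T.hom).homEquiv _ _ φ := by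
    rw [ConsEmbedLib.KMap_comp, ← Category.assoc, hb, Category.assoc, IsIso.inv_hom_id, Category.comp_id]
    rfl
  obtain ⟨eK⟩ := nonempty_arrow_iso π φ b hb'
  let U₀ := DO.obj (op i)
  let φ' := ((EtCoh.pullPushAdj U₀.hom).homEquiv _ _).symm b
  let F₀ := cokernel φ'
  have hF₀ : Cons U₀.left F₀ := cons_cokernel φ' ((cons_iff _).2 hE).pull ((cons_iff _).2 hP).pull
  let ψ := e.functor.obj (op i)
  let fi : U₀.left ⟶ D.obj ψ.left := pullback.snd fk (D.map ψ.hom)
  haveI : IsProper fi := inferInstanceAs (IsProper (pullback.snd fk (D.map ψ.hom)))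
  haveI : IsNoetherian U₀.left := isNoetherian_of_proper fi
  have hπs : π.left ≫ fi = pullback.snd f₁ (c.π.app k₁) ≫ c.π.app ψ.left := by
    show (sqp.isoPullback.hom ≫ pbπ (ofStage D c hc φk.left) fk ψ) ≫ pullback.snd fk (D.map ψ.hom) = _
    rw [Category.assoc]
    erw [pbπ_snd, sqp.isoPullback_hom_snd_assoc]
    rfl
  have sqi : IsPullback π.left (pullback.snd f₁ (c.π.app k₁)) fi (c.π.app ψ.left) := by
    refine IsPullback.of_right ?_ hπs (IsPullback.of_hasPullback fk (D.map ψ.hom))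
    have h1 : π.left ≫ pullback.fst fk (D.map ψ.hom) = p := Over.w π
    rw [h1, c.w]
    exact sqp
  have hF₁ : Cons _ ((EtCoh.Rpush fi q).obj F₀) := cons_Rpush_of_isProper fi F₀ hF₀ q
  obtain ⟨eR⟩ := nonempty_pull_Rpush sqi (isTorsion_of_cons hF₀) q
  have hR : Cons c.pt ((EtCoh.Rpush (pullback.snd f₁ (c.π.app k₁)) q).obj ((EtCoh.pull π.left).obj F₀)) :=
    IsCons.of_hom hF₁.pull eR.hom
  haveI : (EtCoh.pull p).Additive := inferInstance
  refine IsCons.of_hom hR ((EtCoh.Rpush _ q).mapIso (eK ≪≫ ?_ ≪≫ eF.symm)).hom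
  exact cokernel.mapIso _ _ eE eP (by simp [φ])

/-- Higher direct images along proper morphisms of finite presentation over an affine base. -/
theorem cons_Rpush_affine {X S : Scheme.{u}} [IsAffine S] (f : X ⟶ S) [IsProper f] [LocallyOfFinitePresentation f]
    (F : EtCoh.Ab X) (hF : Cons X F) (q : ℕ) : Cons S ((EtCoh.Rpush f q).obj F) := by
  let A := ConsLib.zSys (Γ(S, ⊤) : Type u)
  haveI : ∀ i j (a : i ⟶ j), IsAffineHom (A.D.map a) := fun _ _ a => A.affine_map a
  haveI : ∀ i, IsNoetherian (A.D.obj i) := fun i => ConsLib.zSys_obj _ i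
  let e : S ≅ A.c.pt := S.isoSpec ≪≫ (ConsLib.zSysIso _).symm
  obtain ⟨i, ⟨N⟩⟩ := DescFP.exists_model A.hc (f ≫ e.hom)
  let B := ofStage A.D A.c A.hc i
  haveI := N.lfp
  haveI := N.qc
  haveI := N.qs
  obtain ⟨φ, hφ⟩ := ConsLib.exists_at_isProper B N.p (by
    show IsProper (pullback.snd N.p (A.c.π.app i))
    rw [← N.sq.isoPullback_inv_snd, MorphismProperty.cancel_left_of_respectsIso (P := @IsProper)]
    infer_instance)
  let N' := N.push φ.hom
  haveI : CompactSpace X := QuasiCompact.compactSpace_of_compactSpace f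
  haveI : QuasiSeparatedSpace X := quasiSeparatedSpace_of_quasiSeparated f
  haveI : IsProper N'.p := hφ
  let g' := N'.sq.isoPullback
  have sq : IsPullback g'.hom f (pullback.snd N'.p (A.c.π.app φ.left)) e.hom :=
    IsPullback.of_horiz_isIso ⟨N'.sq.isoPullback_hom_snd⟩
  let F' := (EtCoh.pull g'.inv).obj F
  have hF' : Cons _ F' := hF.pull
  have h := cons_Rpush_of_stage A.hc (fun j => inferInstance) φ.left N'.p F' hF' q
  haveI : CompactSpace ↥(pullback N'.p (A.c.π.app φ.left)) := g'.hom.surjective.compactSpace g'.hom.continuous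
  haveI : QuasiSeparatedSpace ↥(pullback N'.p (A.c.π.app φ.left)) := quasiSeparatedSpace_of_quasiSeparated g'.inv
  haveI : IsProper (pullback.snd N'.p (A.c.π.app φ.left)) := MorphismProperty.pullback_snd _ _ hφ
  obtain ⟨eR⟩ := nonempty_pull_Rpush sq (isTorsion_of_cons hF') q
  obtain ⟨e0⟩ := nonempty_pull_id X
  let eF : (EtCoh.pull g'.hom).obj F' ≅ F :=
    (pullCompA AddCommGrpCat.{u + 1} g'.hom g'.inv).app F ≪≫
      (pullCongrA AddCommGrpCat.{u + 1} g'.hom_inv_id).app F ≪≫ e0.app F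
  exact IsCons.of_hom h.pull (eR ≪≫ (EtCoh.Rpush f q).mapIso eF).hom

/-- Higher direct images along proper morphisms of finite presentation preserve constructibility. -/
theorem isConstructible_Rpush {X S : Scheme.{u}} (f : X ⟶ S) [IsProper f] [LocallyOfFinitePresentation f]
    (n : ℕ) (hn : 0 < n) (F : EtCoh.Ab X) (hF : Cons X F) (hFn : EtCoh.KilledBy n F) (q : ℕ) :
    Cons S ((EtCoh.Rpush f q).obj F) := by
  refine IsCons.of_open_cover (fun U : S.affineOpens => (U : S.Opens)) (iSup_affineOpens_eq_top S) fun U => ?_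
  let ι := (U : S.Opens).ι
  haveI : IsAffine (U : S.Opens).toScheme := U.2
  have sq : IsPullback (pullback.fst f ι) (pullback.snd f ι) f ι := IsPullback.of_hasPullback f ι
  have hT : EtCoh.IsTorsion F := EtPBCProperLib.isTorsion_of_nsmul hn ((ConsFiniteLib.killedBy_iff n F).1 hFn)
  obtain ⟨e⟩ := nonempty_pull_Rpush sq hT q
  exact IsCons.of_hom (cons_Rpush_affine (pullback.snd f ι) _ hF.pull q) e.inv

end EtProperConsLib
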