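import Groth.Agent.EtProperConsLib.Descent
import Groth.Agent.EtPBCDLib.Plus
import Groth.Agent.EtPBCCdLib.Bounded
import Groth.Agent.EtShLib.ExtComp
import Groth.Agent.RichLib.LimTop
import Groth.Agent.S2079
import Groth.Agent.S12442

/-!
# Direct images with proper support preserve constructibility
-/

set_option autoImplicit false
set_option linter.all false
set_option backward.isDefEq.respectTransparency false
set_option backward.isDefEq.respectTransparency.types false
set_option synthInstance.maxHeartbeats 400000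
set_option maxHeartbeats 1000000

universe u

open CategoryTheory CategoryTheory.Limits CategoryTheory.Pretriangulated AlgebraicGeometry Opposite
open Groth.Agent Groth.Agent.EtShLib

attribute [local instance] HasDerivedCategory.standard EtSliceLib.pullExact EtPBCDLib.preservesFiniteColimits_extZero

noncomputable section

namespace EtProperConsLib

/-- A compactification of a morphism of finite presentation sits as a closed subscheme in a proper morphism of finite
presentation, the open part being cut out by an open subscheme. -/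
theorem exists_fp_factor {X P Y : Scheme.{u}} [CompactSpace Y] [QuasiSeparatedSpace Y] [CompactSpace X]
    (j : X ⟶ P) [IsOpenImmersion j] (fbar : P ⟶ Y) [IsProper fbar] [LocallyOfFinitePresentation (j ≫ fbar)] :
    ∃ (P' : Scheme.{u}) (g : P' ⟶ Y) (a : P ⟶ P') (U : P'.Opens) (k : X ⟶ U.toScheme),
      IsProper g ∧ LocallyOfFinitePresentation g ∧ IsClosedImmersion a ∧ a ≫ g = fbar ∧
        CompactSpace U.toScheme ∧ IsClosedImmersion k ∧ LocallyOfFinitePresentation k ∧ j ≫ a = k ≫ U.ι := by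
  classical
  obtain ⟨I, _, _, D, c, _, e, -, h⟩ := Groth.Agent.S2079.result fbar
  obtain ⟨i⟩ : Nonempty I := IsCofiltered.nonempty
  obtain ⟨ha, hg, hgfp⟩ := h i
  haveI := ha
  haveI := hg
  haveI := hgfp
  let P' := (D.obj i).left
  let g : P' ⟶ Y := (D.obj i).hom
  haveI : IsProper g := hg
  haveI : LocallyOfFinitePresentation g := hgfp
  let a : P ⟶ P' := e.inv.left ≫ (c.π.app i).left
  haveI : IsClosedImmersion (c.π.app i).left := ha
  haveI : IsIso e.inv.left := inferInstanceAs (IsIso ((Over.forget Y).map e.inv))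
  haveI : IsClosedImmersion a := inferInstanceAs (IsClosedImmersion (e.inv.left ≫ (c.π.app i).left))
  have hag : a ≫ g = fbar := by
    show (e.inv.left ≫ (c.π.app i).left) ≫ (D.obj i).hom = fbar
    rw [Category.assoc]
    exact (congrArg _ (Over.w (c.π.app i))).trans (Over.w e.inv)
  haveI : CompactSpace P' := QuasiCompact.compactSpace_of_compactSpace g
  haveI : QuasiSeparatedSpace P' := quasiSeparatedSpace_of_quasiSeparated g
  obtain ⟨V, hV, hVr⟩ := a.isClosedEmbedding.isInducing.isOpen_iff.1 j.opensRange.isOpen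
  have hc : IsCompact (a.base '' Set.range j.base) :=
    (isCompact_range j.base.hom.continuous).image a.base.hom.continuous
  have hsub : a.base '' Set.range j.base ⊆ V := by
    rintro _ ⟨x, hx, rfl⟩
    exact hVr.ge hx
  obtain ⟨ι, W, hW, hWV⟩ : ∃ (ι : Type u) (W : ι → P'.Opens), (∀ t, IsCompact (W t : Set P')) ∧
      (V : Set P') = ⋃ t, (W t : Set P') := by
    refine ⟨{W : P'.Opens // IsAffineOpen W ∧ (W : Set P') ⊆ V}, fun t => t.1, fun t => t.2.1.isCompact,
      Set.Subset.antisymm (fun x hx => ?_) (Set.iUnion_subset fun t => t.2.2)⟩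
    obtain ⟨W, hW, hxW, hWV⟩ := exists_isAffineOpen_mem_and_subset (U := (⟨V, hV⟩ : P'.Opens)) hx
    exact Set.mem_iUnion.2 ⟨⟨W, hW, hWV⟩, hxW⟩
  obtain ⟨s, hs⟩ := hc.elim_finite_subcover (fun t => (W t : Set P')) (fun t => (W t).2) (hsub.trans hWV.le)
  let U : P'.Opens := s.sup W
  have hU : (U : Set P') = ⋃ t ∈ s, (W t : Set P') := by
    simp only [U, Finset.sup_eq_iSup, TopologicalSpace.Opens.coe_iSup]
  have hUc : IsCompact (U : Set P') := hU ▸ s.isCompact_biUnion fun t _ => hW t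
  haveI : CompactSpace U.toScheme := isCompact_iff_compactSpace.1 hUc
  have hUV : (U : Set P') ⊆ V := by
    rw [hU, hWV]
    exact Set.iUnion₂_subset fun t _ => Set.subset_iUnion (fun t => (W t : Set P')) t
  have hpre : a ⁻¹ᵁ U = j.opensRange := by
    refine TopologicalSpace.Opens.ext (Set.Subset.antisymm (fun x hx => hVr.le (hUV hx)) fun x hx => ?_)
    exact hU.ge (hs ⟨x, hx, rfl⟩)
  let k : X ⟶ U.toScheme := j.isoOpensRange.hom ≫ (P.isoOfEq hpre).inv ≫ a ∣_ U
  haveI : IsClosedImmersion (a ∣_ U) := IsZariskiLocalAtTarget.restrict ‹IsClosedImmersion a› U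
  haveI : IsClosedImmersion k := inferInstanceAs (IsClosedImmersion (j.isoOpensRange.hom ≫ _ ≫ a ∣_ U))
  have hk : k ≫ U.ι = j ≫ a := by
    simp only [k, Category.assoc, morphismRestrict_ι, Scheme.isoOfEq_inv_ι_assoc,
      Scheme.Hom.isoOpensRange_hom_ι_assoc]
  haveI : LocallyOfFinitePresentation (k ≫ (U.ι ≫ g)) := by
    rw [reassoc_of% hk, hag]
    infer_instance
  haveI : LocallyOfFinitePresentation k := Groth.Agent.S12442.lfp_of_comp_lft k (U.ι ≫ g)
  exact ⟨P', g, a, U, k, ‹_›, ‹_›, ‹_›, hag, ‹_›, ‹_›, ‹_›, hk.symm⟩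

/-- Direct images with proper support of a constructible sheaf are constructible. -/
theorem cons_Rpush_extZero {X P Y : Scheme.{u}} [CompactSpace X] [QuasiSeparatedSpace X] [CompactSpace Y]
    [QuasiSeparatedSpace Y] (j : X ⟶ P) [IsOpenImmersion j] (fbar : P ⟶ Y) [IsProper fbar]
    [LocallyOfFinitePresentation (j ≫ fbar)] (F : EtCoh.Ab X) (hF : Cons X F) (q : ℕ) :
    Cons Y ((EtCoh.Rpush fbar q).obj ((EtShriek.extZero j).obj F)) := by
  obtain ⟨P', g, a, U, k, hg, hgfp, ha, hag, hUc, hk, hkfp, hsq⟩ := exists_fp_factor j fbar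
  haveI : CompactSpace P' := QuasiCompact.compactSpace_of_compactSpace g
  haveI : QuasiSeparatedSpace P' := quasiSeparatedSpace_of_quasiSeparated g
  haveI : QuasiSeparatedSpace U.toScheme := quasiSeparatedSpace_of_quasiSeparated U.ι
  obtain ⟨m, hm, hFm⟩ := exists_killed hF
  have h0 : Cons _ ((EtCoh.push k).obj F) :=
    IsCons.of_hom (isConstructible_Rpush k m hm F hF hFm 0) ((EtCoh.push k).rightDerivedZeroIsoSelf.app F).hom
  have h1 : Cons P' ((EtShriek.extZero U.ι).obj ((EtCoh.push k).obj F)) := isCons_extZero_cons (f := U.ι) h0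
  obtain ⟨η⟩ := EtPBCDLib.exists_natIso_square j a k U.ι hsq
  obtain ⟨e⟩ := EtPBCCdLib.nonempty_Rpush_comp_finite a g fbar hag ((EtShriek.extZero j).obj F) q
  have h2 : Cons P' ((EtCoh.push a).obj ((EtShriek.extZero j).obj F)) := IsCons.of_hom h1 (η.app F).inv
  obtain ⟨n, hn, hn'⟩ := exists_killed h2
  exact IsCons.of_hom (isConstructible_Rpush g n hn _ h2 hn' q) e.inv

theorem cons_of_isZero {X : Scheme.{u}} {M : EtCoh.Ab X} (hM : IsZero M) : Cons X M :=
  isCons_of_isZero (A := AddCommGrpCat.{u + 1}) (P := FinP) (by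
    haveI := AddCommGrpCat.subsingleton_of_isZero (isZero_zero AddCommGrpCat.{u + 1})
    exact Finite.of_subsingleton) hM

theorem isGE_rpush {A B : Scheme.{u}} (h : A ⟶ B) [DCoh.HasRpushEt A h] (K : DCoh.DEt A) (m : ℤ) [K.IsGE m] :
    ((DCoh.RpushEt A h).obj K).IsGE m := by
  obtain ⟨K₀, hK₀, ⟨e⟩⟩ := K.exists_iso_Q_obj_of_isGE m
  haveI := hK₀
  obtain ⟨I, α, hI, hinj, -, hα⟩ := Groth.Agent.DerLib.Horseshoe.exists_injective_resolution K₀ m
  haveI := hI
  haveI : IsIso (DerivedCategory.Q.map α) := (DerivedCategory.isIso_Q_map_iff_quasiIso (EtCoh.Ab A) α).2 hα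
  obtain ⟨e'⟩ := EtPBCDLib.nonempty_rpush_Q h I m fun n i hi => by
    haveI := hinj n
    obtain ⟨i, rfl⟩ := Nat.exists_eq_succ_of_ne_zero hi.ne'
    exact (EtCoh.push h).isZero_rightDerived_obj_injective_succ i (I.X n)
  haveI : CochainComplex.IsStrictlyGE (((EtCoh.push h).mapHomologicalComplex (ComplexShape.up ℤ)).obj I) m :=
    (CochainComplex.isStrictlyGE_iff _ _).2 fun i hi => (EtCoh.push h).map_isZero (I.isZero_of_isStrictlyGE m i hi)
  exact DerivedCategory.TStructure.t.isGE_of_iso (((DCoh.RpushEt A h).mapIso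
    (e ≪≫ asIso (DerivedCategory.Q.map α)) ≪≫ e').symm) m

theorem isGE_extZeroD {A B : Scheme.{u}} (j : A ⟶ B) [IsOpenImmersion j] [PreservesFiniteLimits (EtShriek.extZero j)]
    (K : DCoh.DEt A) (m : ℤ) [K.IsGE m] : ((DEt.extZeroD j).obj K).IsGE m := by
  obtain ⟨K₀, hK₀, ⟨e⟩⟩ := K.exists_iso_Q_obj_of_isGE m
  haveI := hK₀
  haveI : CochainComplex.IsStrictlyGE (((EtShriek.extZero j).mapHomologicalComplex (ComplexShape.up ℤ)).obj K₀) m :=
    (CochainComplex.isStrictlyGE_iff _ _).2 fun i hi => (EtShriek.extZero j).map_isZero (K₀.isZero_of_isStrictlyGE m i hi)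
  exact DerivedCategory.TStructure.t.isGE_of_iso ((DEt.extZeroD j).mapIso e ≪≫ EtPBCDLib.extZeroQ j K₀).symm m

/-- The middle term of an exact sequence with five terms. -/
theorem cons_five {X : Scheme.{u}} {A B C D E : EtCoh.Ab X} (a : A ⟶ B) (f : B ⟶ C) (g : C ⟶ D) (d : D ⟶ E)
    {w₀ : a ≫ f = 0} {w₁ : f ≫ g = 0} {w₂ : g ≫ d = 0} (h₀ : (ShortComplex.mk a f w₀).Exact)
    (h₁ : (ShortComplex.mk f g w₁).Exact) (h₂ : (ShortComplex.mk g d w₂).Exact)
    (hA : Cons X A) (hB : Cons X B) (hD : Cons X D) (hE : Cons X E) : Cons X C := by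
  haveI : Epi (kernel.lift g f w₁) := h₁.epi_kernelLift
  haveI : Mono (cokernel.desc a f w₀) := h₀.mono_cokernelDesc
  let q : cokernel a ⟶ kernel g := cokernel.desc a (kernel.lift g f w₁)
    (by rw [← cancel_mono (kernel.ι g), Category.assoc, kernel.lift_ι, zero_comp, w₀])
  have hq : q ≫ kernel.ι g = cokernel.desc a f w₀ := by
    rw [← cancel_epi (cokernel.π a)]
    simp [q]
  haveI : Mono q := mono_of_mono_fac hq
  haveI : Epi q := epi_of_epi_fac (cokernel.π_desc _ _ _)
  haveI := isIso_of_mono_of_epi q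
  have hK : Cons X (kernel g) := IsCons.of_hom (cons_cokernel a hA hB) q
  haveI : Mono (cokernel.desc (kernel.ι g) g (kernel.condition g)) :=
    (ShortComplex.exact_kernel g).mono_cokernelDesc
  haveI : Epi (kernel.lift d g w₂) := h₂.epi_kernelLift
  let r : cokernel (kernel.ι g) ⟶ kernel d := cokernel.desc (kernel.ι g) (kernel.lift d g w₂)
    (by rw [← cancel_mono (kernel.ι d), Category.assoc, kernel.lift_ι, zero_comp, kernel.condition])
  have hr : r ≫ kernel.ι d = cokernel.desc (kernel.ι g) g (kernel.condition g) := by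
    rw [← cancel_epi (cokernel.π (kernel.ι g))]
    simp [r]
  haveI : Mono r := mono_of_mono_fac hr
  haveI : Epi r := epi_of_epi_fac (cokernel.π_desc _ _ _)
  haveI := isIso_of_mono_of_epi r
  exact cons_extension (S := ShortComplex.mk (kernel.ι g) (cokernel.π _) (cokernel.condition _))
    { exact := ShortComplex.exact_cokernel _ } hK (IsCons.of_hom (cons_kernel d hD hE) (inv r))

section Triangle

variable {X : Scheme.{u}} {T : Triangle (DCoh.DEt X)}

/-- The middle term of a distinguished triangle. -/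
theorem cons_middle (hT : T ∈ distTriang (DCoh.DEt X)) (h₁ : ∀ i, Cons X (DCoh.HDEt T.obj₁ i))
    (h₃ : ∀ i, Cons X (DCoh.HDEt T.obj₃ i)) (i : ℤ) : Cons X (DCoh.HDEt T.obj₂ i) := by
  exact cons_five _ _ _ _ (DerivedCategory.HomologySequence.exact₁ T hT (i - 1) i (by omega))
    (DerivedCategory.HomologySequence.exact₂ T hT i) (DerivedCategory.HomologySequence.exact₃ T hT i (i + 1) rfl)
    (h₃ (i - 1)) (h₁ i) (h₃ i) (h₁ (i + 1))

theorem isIso_mor₁_of_isZero (hT : T ∈ distTriang (DCoh.DEt X)) (i : ℤ)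
    (h₀ : IsZero (DCoh.HDEt T.obj₃ (i - 1))) (h : IsZero (DCoh.HDEt T.obj₃ i)) :
    IsIso ((DerivedCategory.homologyFunctor (EtCoh.Ab X) i).map T.mor₁) := by
  haveI : Mono ((DerivedCategory.homologyFunctor (EtCoh.Ab X) i).map T.mor₁) :=
    (DerivedCategory.HomologySequence.mono_homologyMap_mor₁_iff T hT (i - 1) i (by omega)).2 (h₀.eq_of_src _ _)
  haveI : Epi ((DerivedCategory.homologyFunctor (EtCoh.Ab X) i).map T.mor₁) :=
    (DerivedCategory.HomologySequence.epi_homologyMap_mor₁_iff T hT i).2 (h.eq_of_tgt _ _)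
  exact isIso_of_mono_of_epi _

end Triangle

/-- `Rf_!` preserves bounded below objects with constructible cohomology. -/
theorem cons_Rshriek {X Y : Scheme.{u}} [CompactSpace X] [QuasiSeparatedSpace X] [CompactSpace Y]
    [QuasiSeparatedSpace Y] {f : X ⟶ Y} [LocallyOfFinitePresentation f] (c : DEt.Compactification f)
    [PreservesFiniteLimits (EtShriek.extZero c.j)] [DCoh.HasRpushEt c.Xbar c.fbar] (K : DCoh.DEt X) (a : ℤ)
    [K.IsGE a] (hc : ∀ n : ℤ, Cons X (DCoh.HDEt K n)) (n : ℤ) :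
    Cons Y (DCoh.HDEt ((DEt.Rshriek c).obj K) n) := by
  obtain ⟨_, _⟩ := Groth.Agent.DerLib.KInjDerived.exists_isTriangulated_map (EtBcDLib.enough c.Xbar) (EtCoh.push c.fbar)
    (DCoh.RpushEt c.Xbar c.fbar)
    ((DCoh.pushEtKh c.Xbar c.fbar).totalRightDerivedUnit DerivedCategory.Qh
      (HomotopyCategory.quasiIso (EtCoh.Ab c.Xbar) (ComplexShape.up ℤ)))
  letI : (DEt.extZeroD c.j).CommShift ℤ := inferInstanceAs ((EtShriek.extZero c.j).mapDerivedCategory.CommShift ℤ)
  haveI : (DEt.extZeroD c.j).IsTriangulated := inferInstanceAs ((EtShriek.extZero c.j).mapDerivedCategory.IsTriangulated)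
  haveI : LocallyOfFinitePresentation (c.j ≫ c.fbar) := by rw [c.fac]; infer_instance
  let Φ := DEt.Rshriek c
  have hGE : ∀ (E : DCoh.DEt X) (m : ℤ) [E.IsGE m], (Φ.obj E).IsGE m := fun E m _ =>
    haveI := isGE_extZeroD c.j E m
    isGE_rpush c.fbar _ m
  let P : DCoh.DEt X → Prop := fun E => ∀ i : ℤ, Cons Y (DCoh.HDEt (Φ.obj E) i)
  have hiso : ∀ {A B : DCoh.DEt X}, (A ≅ B) → P A → P B := fun e h i =>
    IsCons.of_hom (h i) ((DerivedCategory.homologyFunctor (EtCoh.Ab Y) i).mapIso (Φ.mapIso e)).hom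
  have hz : ∀ (M : EtCoh.Ab Y), IsZero M → Cons Y M := fun M hM =>
    cons_of_isZero hM
  have hS : ∀ (M : EtCoh.Ab X), Cons X M → ∀ i : ℤ,
      Cons Y (DCoh.HDEt (Φ.obj ((DerivedCategory.singleFunctor (EtCoh.Ab X) 0).obj M)) i) := fun M hM i => by
    let G := (EtShriek.extZero c.j).obj M
    let e₀ : (DEt.extZeroD c.j).obj ((DerivedCategory.singleFunctor (EtCoh.Ab X) 0).obj M) ≅ EtBC.single c.Xbar G :=
      ((EtShriek.extZero c.j).mapDerivedCategorySingleFunctor 0).app M
    let H := (DerivedCategory.homologyFunctor (EtCoh.Ab Y) i).mapIso ((DCoh.RpushEt c.Xbar c.fbar).mapIso e₀)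
    rcases lt_or_ge i 0 with h | h
    · exact hz _ ((EtBcBridgeLib.isZero_homology_rpush_single c.fbar G i h).of_iso H)
    · obtain ⟨q, rfl⟩ := Int.eq_ofNat_of_zero_le h
      obtain ⟨e⟩ := EtBcDLib.nonempty_homology_rpush_single c.fbar G q
      exact IsCons.of_hom (cons_Rpush_extZero c.j c.fbar M hM q) (H ≪≫ e).inv
  let b := max a n
  obtain ⟨k, hk⟩ := Int.le.dest (le_max_left a n)
  let t := DerivedCategory.TStructure.t (C := EtCoh.Ab X)
  let T := (t.triangleLEGT b).obj K
  have hT : T ∈ distTriang _ := t.triangleLEGT_distinguished b K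
  haveI : T.obj₃.IsGE (b + 1) := inferInstanceAs (t.IsGE ((t.truncGT b).obj K) (b + 1))
  haveI : T.obj₁.IsLE b := inferInstanceAs (t.IsLE ((t.truncLE b).obj K) b)
  haveI : T.obj₁.IsGE a := inferInstanceAs (t.IsGE ((t.truncLE b).obj K) a)
  have hH : ∀ i : ℤ, i ≤ b → IsIso ((DerivedCategory.homologyFunctor (EtCoh.Ab X) i).map T.mor₁) := fun i hi =>
    isIso_mor₁_of_isZero hT i (DerivedCategory.isZero_of_isGE T.obj₃ (b + 1) _ (by omega))
      (DerivedCategory.isZero_of_isGE T.obj₃ (b + 1) i (by omega))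
  have hP : P T.obj₁ := by
    haveI : T.obj₁.IsLE (a + k) := (show b = a + k from hk.symm) ▸ (inferInstance : T.obj₁.IsLE b)
    refine Groth.Agent.Dual3Lib.prop_of_bounded P hiso
      (fun S hS' h₁ h₃ => cons_middle (Φ.map_distinguished S hS') h₁ h₃)
      (fun hA i => hz _ ((DerivedCategory.homologyFunctor (EtCoh.Ab Y) i).map_isZero (Φ.map_isZero hA))) a k T.obj₁
      fun q hq hq' i => ?_
    let M := (DerivedCategory.homologyFunctor (EtCoh.Ab X) q).obj T.obj₁
    have hM : Cons X M := by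
      haveI := hH q (by omega)
      exact IsCons.of_hom (hc q) (inv ((DerivedCategory.homologyFunctor (EtCoh.Ab X) q).map T.mor₁))
    let e₁ : (DerivedCategory.singleFunctor (EtCoh.Ab X) q).obj M ≅
        ((DerivedCategory.singleFunctor (EtCoh.Ab X) 0).obj M)⟦-q⟧ :=
      (((DerivedCategory.singleFunctors (EtCoh.Ab X)).shiftIso (-q) q 0 (by omega)).app M).symm
    exact IsCons.of_hom (hS M hM (i - q)) ((DerivedCategory.homologyFunctor (EtCoh.Ab Y) i).mapIso (Φ.mapIso e₁ ≪≫
      (Φ.commShiftIso (-q)).app _) ≪≫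
      (((DerivedCategory.homologyFunctor (EtCoh.Ab Y) 0).shiftIso (-q) i (i - q) (by omega)).app _)).inv
  haveI := hGE T.obj₃ (b + 1)
  have hn : n ≤ b := le_max_right a n
  haveI := isIso_mor₁_of_isZero (Φ.map_distinguished T hT) n
    (DerivedCategory.isZero_of_isGE (Φ.obj T.obj₃) (b + 1) _ (by omega))
    (DerivedCategory.isZero_of_isGE (Φ.obj T.obj₃) (b + 1) n (by omega))
  exact IsCons.of_hom (hP n) ((DerivedCategory.homologyFunctor (EtCoh.Ab Y) n).map (Φ.mapTriangle.obj T).mor₁)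

end EtProperConsLib
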