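import Groth.Agent.EtProperConsLib.Descent
import Groth.Agent.EtCurveConsLib.Spec
import Groth.Agent.EtCurveConsLib.Fibre
import Groth.Agent.EtAcycFibLib.Trans
import Groth.Agent.EtShLib.SpecLC
import Groth.Agent.LocAcycStalkLib.Main

/-!
# Higher direct images along proper locally acyclic morphisms are finite locally constant
-/

set_option autoImplicit false
set_option linter.all false
set_option backward.isDefEq.respectTransparency false
set_option backward.isDefEq.respectTransparency.types false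
set_option synthInstance.maxHeartbeats 400000
set_option maxHeartbeats 2000000

universe u

open CategoryTheory CategoryTheory.Limits AlgebraicGeometry Opposite CategoryTheory.Abelian
open Groth.Agent Groth.Agent.EtShLib EtRpushStalkLib

attribute [local instance] EtSliceLib.pullExact

noncomputable section

namespace EtProperConsLib

/-- Local acyclicity is stable under weakly étale base change. -/
theorem isLocAcyclicN_baseChange_wet {X S X' S' : Scheme.{u}} {f : X ⟶ S} {g : S' ⟶ S} [WeaklyEtale g]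
    {g' : X' ⟶ X} {f' : X' ⟶ S'} (sq : IsPullback g' f' f g) {L : Set ℕ} {n : ℕ}
    (hf : EtAcyc.IsLocAcyclicN f L n) : EtAcyc.IsLocAcyclicN f' L n := by
  haveI : WeaklyEtale g' := MorphismProperty.of_isPullback sq.flip ‹WeaklyEtale g›
  intro z RY RX _ _ _ _ aY hlY hY aX hlX hX _ _ hc
  let y := f'.base z
  letI := (g.stalkMap y).hom.toAlgebra
  letI := (g'.stalkMap z).hom.toAlgebra
  haveI := LocAcycStalkLib.weaklyEtale_stalkMap g y
  haveI := LocAcycStalkLib.weaklyEtale_stalkMap g' z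
  letI bY : Algebra (S.presheaf.stalk (g.base y)) RY :=
    ((algebraMap (S'.presheaf.stalk y) RY).comp (g.stalkMap y).hom).toAlgebra
  letI bX : Algebra (X.presheaf.stalk (g'.base z)) RX :=
    ((algebraMap (X'.presheaf.stalk z) RX).comp (g'.stalkMap z).hom).toAlgebra
  haveI : IsScalarTower (S.presheaf.stalk (g.base y)) (S'.presheaf.stalk y) RY := IsScalarTower.of_algebraMap_eq' rfl
  haveI : IsScalarTower (X.presheaf.stalk (g'.base z)) (X'.presheaf.stalk z) RX := IsScalarTower.of_algebraMap_eq' rfl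
  haveI : IsLocalHom (algebraMap (S.presheaf.stalk (g.base y)) RY) :=
    RingHom.isLocalHom_comp (algebraMap (S'.presheaf.stalk y) RY) (g.stalkMap y).hom
  haveI : IsLocalHom (algebraMap (X.presheaf.stalk (g'.base z)) RX) :=
    RingHom.isLocalHom_comp (algebraMap (X'.presheaf.stalk z) RX) (g'.stalkMap z).hom
  haveI : Hensel.IsStrictHenselization (S.presheaf.stalk (g.base y)) RY :=
    WEtSHLib.isStrictHenselization_of_weaklyEtale _ (S'.presheaf.stalk y) RY
  haveI : Hensel.IsStrictHenselization (X.presheaf.stalk (g'.base z)) RX :=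
    WEtSHLib.isStrictHenselization_of_weaklyEtale _ (X'.presheaf.stalk z) RX
  refine EtAcycFibLib.onStrictLocalizations_apply f (fun _ _ h => EtAcyc.IsAcyclicN h L n) hf (g'.base z) (g.base y)
    ?_ RY RX ?_
  · rw [← Scheme.Hom.comp_apply, sq.w, Scheme.Hom.comp_apply]
  · show Spec.map _ ≫ Spec.map (CommRingCat.ofHom ((algebraMap _ RY).comp (g.stalkMap y).hom)) ≫ _ =
      (Spec.map (CommRingCat.ofHom ((algebraMap _ RX).comp (g'.stalkMap z).hom)) ≫ _) ≫ f
    rw [CommRingCat.ofHom_comp, CommRingCat.ofHom_comp, Spec.map_comp, Spec.map_comp, Category.assoc, Category.assoc,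
      Category.assoc, CommRingCat.ofHom_hom, CommRingCat.ofHom_hom, Scheme.SpecMap_stalkMap_fromSpecStalk,
      Scheme.SpecMap_stalkMap_fromSpecStalk_assoc, sq.w, ← Category.assoc (Spec.map _) _ (_ ≫ g), ← Spec.map_comp,
      ← CommRingCat.ofHom_comp, hc, CommRingCat.ofHom_comp, Spec.map_comp, Category.assoc, CommRingCat.ofHom_hom,
      Scheme.SpecMap_stalkMap_fromSpecStalk_assoc]

section Arrow

variable {S : Scheme.{u}} {R : Type u} [CommRing R] [HenselianLocalRing R]
  [IsSepClosed (IsLocalRing.ResidueField R)] {gS : Spec (CommRingCat.of R) ⟶ S}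

/-- Every arrow to the closed point of a strict localisation comes from a point of the strict localisation. -/
theorem exists_lift_arrow (C : Chart gS) {Ω : Type u} [Field Ω] [IsSepClosed Ω]
    (ξ : Spec (CommRingCat.of Ω) ⟶ S)
    (φ : Scheme.pointSmallEtale ξ ⟶ Scheme.pointSmallEtale (closedPt R ≫ gS)) :
    ∃ j : Spec (CommRingCat.of Ω) ⟶ Spec (CommRingCat.of R), j ≫ gS = ξ ∧
      ∀ (V : S.Etale) (v : Fib (closedPt R ≫ gS) V),
        (Fib.hom (ξ := ξ) (φ.hom.app V v)) = j ≫ sigma gS V v := by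
  let v₀ : ∀ i, Fib (closedPt R ≫ gS) (C.DS.obj i) := fun i =>
    Fib.mk (closedPt R ≫ C.π i) (by rw [Category.assoc, C.w])
  let u : ∀ i, Fib ξ (C.DS.obj i) := fun i => φ.hom.app (C.DS.obj i) (v₀ i)
  have hu : ∀ {i k : C.I} (a : i ⟶ k), (u i).hom ≫ (C.DS.map a).left = (u k).hom := fun {i k} a => by
    have h := congrArg (fun t => t (v₀ i)) (φ.hom.naturality (C.DS.map a))
    have hv : Fib.map (C.DS.map a) (v₀ i) = v₀ k := Fib.ext (by
      show (closedPt R ≫ C.π i) ≫ (C.DS.map a).left = _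
      rw [Category.assoc, C.nat]
      rfl)
    exact ((congrArg Fib.hom h).symm.trans (congrArg (fun w => Fib.hom (φ.hom.app (C.DS.obj k) w)) hv))
  let s : Cone (undl C.DS) := ⟨Spec (CommRingCat.of Ω), ⟨fun i => (u i).hom, fun i k a =>
    (Category.id_comp _).trans (hu a).symm⟩⟩
  let hlim : IsLimit C.cone := C.hc
  let j := hlim.lift s
  have hj : ∀ i, j ≫ C.π i = (u i).hom := fun i => hlim.fac s i
  have i₀ : C.I := Classical.choice IsCofiltered.nonempty
  have hjg : j ≫ gS = ξ := by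
    exact (congrArg (j ≫ ·) (C.w i₀)).symm.trans ((Category.assoc _ _ _).symm.trans
      ((congrArg (· ≫ (C.DS.obj i₀).hom) (hj i₀)).trans (u i₀).w))
  refine ⟨j, hjg, fun V v => ?_⟩
  haveI : AlgebraicGeometry.Etale V.hom := V.prop
  let t : undl C.DS ⟶ (Functor.const C.I).obj S :=
    { app := fun i => (C.DS.obj i).hom
      naturality := fun i k a => (MorphismProperty.Over.w (C.DS.map a)).trans (Category.comp_id _).symm }
  haveI : ∀ {i k : C.I} (a : i ⟶ k), IsAffineHom ((undl C.DS).map a) := fun a => inferInstance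
  haveI : ∀ i, CompactSpace ((undl C.DS).obj i) := fun i => inferInstance
  haveI : ∀ i, QuasiSeparatedSpace ((undl C.DS).obj i) := fun i => inferInstance
  obtain ⟨i, a, ha, ha'⟩ := Scheme.exists_π_app_comp_eq_of_locallyOfFinitePresentation (undl C.DS) t V.hom C.cone
    hlim (sigma gS V v) (by
      ext k
      show C.π k ≫ (C.DS.obj k).hom = sigma gS V v ≫ V.hom
      rw [C.w, sigma_w])
  let a' : C.DS.obj i ⟶ V := MorphismProperty.Over.homMk a ha'
  have hva : Fib.map a' (v₀ i) = v := Fib.ext (by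
    show (closedPt R ≫ C.π i) ≫ a = v.hom
    rw [Category.assoc]
    exact (congrArg (closedPt R ≫ ·) ha).trans (closedPt_sigma gS V v))
  have h := congrArg (fun t => t (v₀ i)) (φ.hom.naturality a')
  refine (congrArg (fun w => Fib.hom (φ.hom.app V w)) hva).symm.trans ((congrArg Fib.hom h).trans ?_)
  show (u i).hom ≫ a = _
  rw [← hj i, Category.assoc]
  exact congrArg (j ≫ ·) ha

end Arrow

/-- The arrow of points given by an extension of fields. -/
def rhoArrow {S : Scheme.{u}} {Ω Ω' : Type u} [Field Ω] [IsSepClosed Ω] [Field Ω'] [IsSepClosed Ω']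
    (ζ : Spec (CommRingCat.of Ω) ⟶ S) (ξ : Spec (CommRingCat.of Ω') ⟶ S)
    (r : Spec (CommRingCat.of Ω') ⟶ Spec (CommRingCat.of Ω)) (h : r ≫ ζ = ξ) :
    Scheme.pointSmallEtale ξ ⟶ Scheme.pointSmallEtale ζ :=
  ⟨{ app := fun V => TypeCat.ofHom (fun v => (Fib.mk (r ≫ Fib.hom (ξ := ζ) v) (by
      rw [Category.assoc, Fib.w, h]) : Fib ξ V))
     naturality := fun V V' a => by
       ext v
       refine Fib.ext ?_
       show r ≫ (Fib.hom (ξ := ζ) v ≫ a.left) = (r ≫ Fib.hom (ξ := ζ) v) ≫ a.left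
       rw [Category.assoc] }⟩

theorem isTorsion_of_isLTorsion {X : Scheme.{u}} {L : Set ℕ} {F : EtCoh.Ab X} (hF : EtAcyc.IsLTorsion L F) :
    EtCoh.IsTorsion F :=
  EtPBCProperLib.isTorsion_of_torsionBy fun Ω _ _ ξ p => by
    obtain ⟨m, hm, hp⟩ := (isLTorsion_iff_torsionBy L F).1 hF Ω ξ p
    exact ⟨m, hm.1, hp⟩

/-- All specialisation maps of `R^q f_* F` are isomorphisms, for `f` proper and locally `n`-acyclic and `q ≤ n`. -/
theorem isIso_arrow {X S : Scheme.{u}} (f : X ⟶ S) [IsProper f] (L : Set ℕ) (n : ℕ)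
    (hf : EtAcyc.IsLocAcyclicN f L n)
    (F : EtCoh.Ab X) (hF : EtAcyc.IsLTorsion L F) (hlc : EtRest.IsLocallyConstant F)
    (q : ℕ) (hq : q ≤ n) {Ω₁ Ω₂ : Type u} [Field Ω₁] [IsSepClosed Ω₁] [Field Ω₂] [IsSepClosed Ω₂]
    (ζ : Spec (CommRingCat.of Ω₁) ⟶ S) (ξ : Spec (CommRingCat.of Ω₂) ⟶ S)
    (φ : Scheme.pointSmallEtale ξ ⟶ Scheme.pointSmallEtale ζ) :
    IsIso ((GrothendieckTopology.Point.Hom.sheafFiber (A := AddCommGrpCat.{u + 1}) φ).app
      ((EtCoh.Rpush f q).obj F)) := by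
  let s := ζ.base default
  have hT : EtCoh.IsTorsion F := isTorsion_of_isLTorsion hF
  obtain ⟨RS, _, _, _, _, hS⟩ := Groth.Agent.S0537.result (S.presheaf.stalk s)
  haveI := hS
  haveI : HenselianLocalRing RS := hS.henselian
  haveI : IsSepClosed (IsLocalRing.ResidueField RS) := hS.isSepClosure.sep_closed
  let gS := Hens2.specOf S s RS
  obtain ⟨CS⟩ := EtRpushStalkLib.exists_chart s RS
  have e₁ : (closedPt RS ≫ gS).base default = ζ.base default := by
    show gS.base ((closedPt RS).base default) = s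
    refine Eq.trans (congrArg gS.base ?_) (EtStrictAcycLib.specOf_closedPoint S s RS)
    exact SubmDescLib.closedPoint_map (IsLocalRing.residue RS) IsLocalRing.residue_surjective _
  obtain ⟨α⟩ := exists_spec_arrow' (closedPt RS ≫ gS) ζ (e₁ ▸ specializes_rfl)
  haveI := isIso_sheafFiber_of_eq (A := AddCommGrpCat.{u + 1}) α e₁.symm
  obtain ⟨j, hjg, hjv⟩ := exists_lift_arrow CS ξ (φ ≫ α)
  suffices H : IsIso ((GrothendieckTopology.Point.Hom.sheafFiber (A := AddCommGrpCat.{u + 1}) (φ ≫ α)).app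
      ((EtCoh.Rpush f q).obj F)) by
    rw [GrothendieckTopology.Point.Hom.sheafFiber_comp, NatTrans.comp_app] at H
    exact IsIso.of_isIso_comp_left ((GrothendieckTopology.Point.Hom.sheafFiber (A := AddCommGrpCat.{u + 1}) α).app
      ((EtCoh.Rpush f q).obj F)) _
  let y := j.base default
  let Ω := SeparableClosure ((Spec (CommRingCat.of RS)).residueField y)
  haveI : IsSepClosed (IsLocalRing.ResidueField Ω) := SkySumLib.isSepClosed_residueField_self Ω
  let ψ : Spec (CommRingCat.of Ω) ⟶ Spec (CommRingCat.of RS) := EtAcyc.geomPt (Spec (CommRingCat.of RS)) y Ω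
  obtain ⟨em, hem⟩ := WeightLib.exists_eq_specMap_fromSpecResidueField j (x := y) (congrArg j.base (Subsingleton.elim _ _))
  letI : Algebra ((Spec (CommRingCat.of RS)).residueField y) Ω₂ := em.hom.toAlgebra
  let lift : Ω →ₐ[(Spec (CommRingCat.of RS)).residueField y] Ω₂ := IsSepClosed.lift
  let r : Spec (CommRingCat.of Ω₂) ⟶ Spec (CommRingCat.of Ω) := Spec.map (CommRingCat.ofHom lift.toRingHom)
  have hr : r ≫ ψ = j := by
    rw [← hem]
    show Spec.map _ ≫ Spec.map _ ≫ _ = _
    rw [← Spec.map_comp_assoc]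
    refine congrArg (fun t => Spec.map t ≫ _) (CommRingCat.hom_ext (RingHom.ext fun x => ?_))
    exact lift.commutes x
  let ξ₀ : Spec (CommRingCat.of Ω) ⟶ S := ψ ≫ gS
  let bS := pullback.snd f gS
  let aS := pullback.fst f gS
  let m := pullback.fst bS ψ
  let h := pullback.snd bS ψ
  let e := m ≫ aS
  have sqS : IsPullback aS bS f gS := IsPullback.of_hasPullback f gS
  have c : IsPullback e h f ξ₀ := (IsPullback.of_hasPullback bS ψ).paste_horiz sqS
  haveI : IsProper bS := MorphismProperty.of_isPullback sqS ‹IsProper f›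
  haveI : IsProper h := MorphismProperty.of_isPullback c ‹IsProper f›
  have sqX : IsPullback (𝟙 _) h h (𝟙 (Spec (CommRingCat.of Ω))) :=
    IsPullback.of_horiz_isIso ⟨by rw [Category.id_comp, Category.comp_id]⟩
  haveI : WeaklyEtale gS := Groth.Agent.S0754.result S s RS
  let G := (EtCoh.pull aS).obj F
  have hb := EtPBCProperLib.bijective_geomFibre bS (L := L) (n := n) (isLocAcyclicN_baseChange_wet sqS hf) G
    (EtAcycLib.isLTorsion_pull_any aS hF) (EtCurveConsLib.isLocallyConstant_pull aS hlc) y Ω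
  have hbij : Function.Bijective (EtCore.Hpull m G q) := hb.1 q hq
  let a' := e
  have hψ : ψ ≫ gS = 𝟙 _ ≫ ξ₀ := (Category.id_comp _).symm
  have wm : m ≫ aS = a' := rfl
  have hm : m ≫ bS = h ≫ ψ := pullback.condition
  haveI : IsIso (EtBC.bcQ f ξ₀ h e c.w q F) := EtPBCProperLib.isIso_bcQ ξ₀ f h e c F hT q
  have hfam := congrArg (fun z => z.app F) (EtBcQLib.fam_eq f ξ₀ h e c ψ hψ sqX (EtPBCProperLib.idChart Ω)
    a' (Category.id_comp e) sqS CS m wm hm q)
  haveI hmV : IsIso ((EtBcQLib.viaFam m aS a' wm q).app F) := by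
    refine (ConcreteCategory.isIso_iff_bijective _).2 ?_
    show Function.Bijective (EtCore.HpullVia m aS a' wm F q)
    exact (EtAcycLib.bijective_mk₀_iso_postcomp (Z := EtCoh.const _ ℤ)
      (((EtCore.pullComp m aS).symm ≪≫ EtCore.pullCongr wm).app F) q).comp hbij
  haveI hmF : IsIso ((EtBcQLib.bcFam f ξ₀ h e c.w gS (closedPt Ω ≫ ψ) (EtBcQLib.hj ξ₀ ψ hψ) sqX
      (EtPBCProperLib.idChart Ω) a' (Category.id_comp e) q).app F) := by
    rw [hfam, NatTrans.comp_app]
    infer_instance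
  let π := (EtBcQLib.pi ξ₀ gS (closedPt Ω ≫ 𝟙 _) (closedPt Ω ≫ ψ) (EtBcQLib.hj ξ₀ ψ hψ)).app
    ((EtCoh.Rpush f q).obj F)
  haveI : IsIso ((EtBcQLib.bcNat f ξ₀ h e c.w q).app F) := inferInstanceAs (IsIso (EtBC.bcQ f ξ₀ h e c.w q F))
  haveI : IsIso ((EtBcQLib.cVia (𝟙 (pullback bS ψ)) e a' (Category.id_comp e)).app F) := inferInstance
  haveI hπ : IsIso π := @IsIso.of_isIso_comp_right _ _ _ _ _ π _ _ hmF
  let φ₀ := EtBcQLib.ptArrow ξ₀ gS (closedPt Ω ≫ 𝟙 _) (closedPt Ω ≫ ψ) (EtBcQLib.hj ξ₀ ψ hψ)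
  haveI hφ₀ : IsIso ((GrothendieckTopology.Point.Hom.sheafFiber (A := AddCommGrpCat.{u + 1}) φ₀).app
      ((EtCoh.Rpush f q).obj F)) := by
    haveI : IsIso ((GrothendieckTopology.Point.Hom.sheafFiber (A := AddCommGrpCat.{u + 1}) φ₀).app
      ((EtCoh.Rpush f q).obj F) ≫ (stalkPull ξ₀ (closedPt Ω ≫ 𝟙 _) AddCommGrpCat.{u + 1}).hom.app
        ((EtCoh.Rpush f q).obj F)) := hπ
    exact IsIso.of_isIso_comp_right _ ((stalkPull ξ₀ (closedPt Ω ≫ 𝟙 _) AddCommGrpCat.{u + 1}).hom.app _)
  haveI : IsIso (closedPt Ω) := by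
    haveI : IsIso (CommRingCat.ofHom (IsLocalRing.residue Ω)) := (ConcreteCategory.isIso_iff_bijective _).2
      ⟨RingHom.injective _, IsLocalRing.residue_surjective⟩
    exact inferInstanceAs (IsIso (Spec.map (CommRingCat.ofHom (IsLocalRing.residue Ω))))
  let r' := r ≫ inv (closedPt Ω)
  have hr' : r' ≫ ((closedPt Ω ≫ 𝟙 _) ≫ ξ₀) = ξ := by
    simp only [r', ξ₀, Category.assoc, Category.id_comp, IsIso.inv_hom_id_assoc]
    rw [← Category.assoc, hr, hjg]
  let ρ := rhoArrow ((closedPt Ω ≫ 𝟙 _) ≫ ξ₀) ξ r' hr'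
  have hρ : φ ≫ α = ρ ≫ φ₀ := by
    refine GrothendieckTopology.Point.Hom.ext (NatTrans.ext (funext fun V => ?_))
    ext v
    refine Fib.ext ((hjv V v).trans ?_)
    show j ≫ sigma gS V v = r' ≫ ((closedPt Ω ≫ ψ) ≫ sigma gS V v)
    simp only [r', Category.assoc, IsIso.inv_hom_id_assoc]
    rw [reassoc_of% hr]
  have e₂ : ξ.base default = ((closedPt Ω ≫ 𝟙 _) ≫ ξ₀).base default := by
    rw [← hr', Scheme.Hom.comp_apply]
    exact congrArg _ (Subsingleton.elim _ _)
  haveI := isIso_sheafFiber_of_eq (A := AddCommGrpCat.{u + 1}) ρ e₂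
  rw [hρ, GrothendieckTopology.Point.Hom.sheafFiber_comp, NatTrans.comp_app]
  infer_instance

/-- Higher direct images of finite locally constant sheaves along proper morphisms of finite presentation are
constructible. -/
theorem cons_Rpush_lc {X S : Scheme.{u}} (f : X ⟶ S) [IsProper f] [LocallyOfFinitePresentation f] {F : EtCoh.Ab X}
    (hT : EtCoh.IsTorsion F) (hlc : LC (A := AddCommGrpCat.{u + 1}) FinP F) (q : ℕ) :
    Cons S ((EtCoh.Rpush f q).obj F) := by
  refine IsCons.of_open_cover (fun U : S.affineOpens => (U : S.Opens)) (iSup_affineOpens_eq_top S) fun U => ?_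
  let ι := (U : S.Opens).ι
  haveI : IsAffine (U : S.Opens).toScheme := U.2
  have sq : IsPullback (pullback.fst f ι) (pullback.snd f ι) f ι := IsPullback.of_hasPullback f ι
  obtain ⟨e⟩ := nonempty_pull_Rpush sq hT q
  exact IsCons.of_hom (cons_Rpush_affine (pullback.snd f ι) _
    ((cons_iff _).2 (EtCurveConsLib.isConstructible_of_lc hlc.pull)) q) e.inv

/-- Higher direct images along proper locally acyclic morphisms are finite locally constant. -/
theorem isFLC_Rpush {X S : Scheme.{u}} (f : X ⟶ S) [IsProper f] [LocallyOfFinitePresentation f] (L : Set ℕ) (n : ℕ)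
    (hf : EtAcyc.IsLocAcyclicN f L n) (F : EtCoh.Ab X) (hF : EtAcyc.IsLTorsion L F)
    (hlc : EtCoh.IsFiniteLocallyConstant F) (q : ℕ) (hq : q ≤ n) :
    EtCoh.IsFiniteLocallyConstant ((EtCoh.Rpush f q).obj F) := by
  have hl := (isFLC_iff F).1 hlc
  have hl' : EtRest.IsLocallyConstant F := (isLC_iff F).2 (hl.mono fun _ _ => trivial)
  have hc := cons_Rpush_lc f (isTorsion_of_isLTorsion hF) hl q
  refine (isFLC_iff _).2 fun x => ?_
  obtain ⟨Ω, _, _, ξ, hξ⟩ := exists_geometric_pt x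
  haveI := finite_stalk_Ab hc ξ
  obtain ⟨W, η, hxW, hη⟩ := exists_cst_of_isIso_spec hc ξ fun Ω' _ _ ξ' φ => isIso_arrow f L n hf F hF hl' q hq ξ ξ' φ
  obtain ⟨y, hy⟩ := hxW
  exact ⟨W, y, _, η, hy.trans hξ, inferInstance, hη⟩

end EtProperConsLib
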