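import Groth.Agent.EtProperConsLib.CurveOpen
import Groth.Agent.ConsFiniteLib.Dev
import Groth.Agent.ConsLib.FGSystem
import Groth.Agent.RichLib.LimitDescentFlat
import Groth.Agent.CurveH0Lib.Smooth
import Groth.Agent.S4672
import Groth.Agent.MiscFlat6.NormalLowDim
import Groth.Agent.SteinLib.Conn
import Groth.Agent.RichLib.QFLocusConstructible
import Groth.Agent.SweepSix.Constr

/-!
# Spreading out the normalisation of a geometric generic fibre of a family of curves
-/

set_option autoImplicit false
set_option linter.all false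
set_option backward.isDefEq.respectTransparency false
set_option backward.isDefEq.respectTransparency.types false
set_option synthInstance.maxHeartbeats 400000
set_option maxHeartbeats 2000000

universe u

open CategoryTheory CategoryTheory.Limits AlgebraicGeometry Opposite RichLib.LimBC Groth.Agent

noncomputable section

namespace EtProperConsLib

theorem genericPoint_mem_of_mem_closure {R : Scheme.{u}} [IrreducibleSpace R] {E : Set R}
    (hE : Topology.IsConstructible E) (h : genericPoint R ∈ closure E) : genericPoint R ∈ E := by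
  obtain ⟨P, hPf, hPl, hEP⟩ := SweepSix.exists_isLocallyClosed_pieces hE
  rw [hEP, hPf.closure_sUnion] at h
  obtain ⟨T, hT, hTh⟩ := Set.mem_iUnion₂.1 h
  have hc : closure T = Set.univ := Set.eq_univ_of_forall fun x =>
    ((genericPoint_spec R).specializes trivial).mem_closed isClosed_closure hTh
  have hTo : IsOpen T := by
    have := (hPl T hT).isOpen_coborder
    rwa [coborder_eq_union_closure_compl, hc, Set.compl_univ, Set.union_empty] at this
  have hne : T.Nonempty := closure_nonempty_iff.1 ⟨_, hTh⟩
  rw [hEP]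
  exact ⟨T, hT, ((genericPoint_spec R).mem_open_set_iff hTo).2 (by simpa using hne)⟩

theorem eq_genericPoint_of_injective {Γ K : Type u} [CommRing Γ] [IsDomain Γ] [Field K] (φ : Γ →+* K)
    (hφ : Function.Injective φ) :
    ∀ p : Spec (CommRingCat.of K), (Spec.map (CommRingCat.ofHom φ)).base p = genericPoint (Spec (CommRingCat.of Γ)) := by
  intro p
  refine Eq.trans ?_ (genericPoint_eq_bot_of_affine (CommRingCat.of Γ)).symm
  refine PrimeSpectrum.ext ?_
  show Ideal.comap φ p.asIdeal = _
  rw [Ideal.eq_bot_of_prime p.asIdeal, Ideal.comap_bot_of_injective _ hφ]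
  rfl

/-- A finite morphism or a family of connected smooth proper curves. -/
def Elem {W S : Scheme.{u}} (g : W ⟶ S) : Prop :=
  IsFinite g ∨ (IsProper g ∧ Smooth g ∧
    (∀ (Ω : Type u) [Field Ω] [IsAlgClosed Ω] (s : Spec (CommRingCat.of Ω) ⟶ S), ConnectedSpace ↥(pullback g s)) ∧
    ∀ (Ω : Type u) [Field Ω] [IsAlgClosed Ω] (s : Spec (CommRingCat.of Ω) ⟶ S),
      topologicalKrullDim ↥(pullback g s) = 1)

theorem elem_baseChange {W S W' S' : Scheme.{u}} {g : W ⟶ S} (h : Elem g) {a : W' ⟶ W} {g' : W' ⟶ S'} {b : S' ⟶ S}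
    (sq : IsPullback a g' g b) : Elem g' := by
  rcases h with h | ⟨hP, hS, hc, hd⟩
  · exact Or.inl (MorphismProperty.of_isPullback sq h)
  · refine Or.inr ⟨MorphismProperty.of_isPullback sq hP, MorphismProperty.of_isPullback sq hS,
      fun Ω _ _ s => ?_, fun Ω _ _ s => ?_⟩ <;>
    · let e := ((IsPullback.of_hasPullback g' s).paste_horiz sq).isoPullback
      first
        | exact (Scheme.homeoOfIso e).connectedSpace_iff.2 (hc Ω _)
        | exact (IsHomeomorph.topologicalKrullDim_eq _ (Scheme.homeoOfIso e).isHomeomorph).trans (hd Ω _)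

/-- An elementary family near a point where a flat proper family is a smooth connected curve or a point. -/
theorem exists_elem_open {K : Type u} [Field K] [IsAlgClosed K] {Z W R : Scheme.{u}} [IsIntegral Z]
    (hnor : Pi1.IsNormalScheme Z) (hdim : topologicalKrullDim Z ≤ 1) [IsLocallyNoetherian R] (g : W ⟶ R)
    [IsProper g] [Flat g] {ζ : Spec (CommRingCat.of K) ⟶ R} {p : Z ⟶ W} {z : Z ⟶ Spec (CommRingCat.of K)}
    (sq : IsPullback p z g ζ) (pt : Spec (CommRingCat.of K)) :
    ∃ (U : Scheme.{u}) (j : U ⟶ R) (_ : IsOpenImmersion j), ζ.base pt ∈ Set.range j.base ∧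
      Elem (pullback.snd g j) := by
  haveI : LocallyOfFinitePresentation g := LocallyOfFinitePresentation.iff_locallyOfFiniteType.2 inferInstance
  haveI : IsProper z := MorphismProperty.of_isPullback sq ‹IsProper g›
  obtain rfl : pt = (default : Spec (CommRingCat.of K)) := Subsingleton.elim (α := PrimeSpectrum K) _ _
  have hfib : topologicalKrullDim (g.fiber (ζ.base default)) = topologicalKrullDim Z := by
    rw [← EtPBCCdLib.dim_pullback_point g ζ]
    exact (IsHomeomorph.topologicalKrullDim_eq _ (Scheme.homeoOfIso sq.isoPullback).isHomeomorph).symm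
  by_cases h0 : topologicalKrullDim Z ≤ 0
  · haveI : LocallyQuasiFinite z := by
      have heq : ∀ w : Z, w = genericPoint Z := fun w => by
        by_contra hne
        have h := (DimIneqLib.chainTo_zero (genericPoint Z)).step (genericPoint_specializes w) (Ne.symm hne)
        exact absurd (h.le_dim.trans h0) (by norm_num)
      haveI : Subsingleton Z := ⟨fun a b => (heq a).trans (heq b).symm⟩
      exact LocallyQuasiFinite.of_finite_preimage_singleton _ fun _ => Set.toFinite _
    let V : R.Opens := ⟨(g.base '' (g.quasiFiniteLocus : Set W)ᶜ)ᶜ,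
      (g.isClosedMap _ g.quasiFiniteLocus.isOpen.isClosed_compl).isOpen_compl⟩
    refine ⟨V.toScheme, V.ι, inferInstance, ?_, Or.inl ?_⟩
    · rw [Scheme.Opens.range_ι]
      rintro ⟨w, hw, hwz⟩
      obtain ⟨t, ht, -⟩ := Scheme.Pullback.exists_preimage_pullback (f := g) (g := ζ) w default hwz
      obtain ⟨z', rfl⟩ := sq.isoPullback.hom.surjective t
      refine hw ?_
      rw [← ht, ← Scheme.Hom.comp_apply, sq.isoPullback_hom_fst]
      exact (RichLib.QFLocus.quasiFiniteAt_iff_of_isPullback sq z').1 (z.quasiFiniteAt z')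
    haveI : IsProper (pullback.snd g V.ι) := inferInstance
    haveI : LocallyQuasiFinite (pullback.snd g V.ι) := by
      rw [← Scheme.Hom.quasiFiniteLocus_eq_top_iff, eq_top_iff]
      intro x _
      refine (RichLib.QFLocus.quasiFiniteAt_iff_of_isPullback (IsPullback.of_hasPullback g V.ι) x).2 ?_
      by_contra hx
      refine (pullback.snd g V.ι x).2 ⟨_, hx, ?_⟩
      rw [← Scheme.Hom.comp_apply, pullback.condition]
      rfl
    exact IsFinite.of_isProper_of_locallyQuasiFinite _
  haveI : IsLocallyNoetherian Z := LocallyOfFiniteType.isLocallyNoetherian z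
  haveI : Smooth z := CurveH0Lib.smooth_of_regular K z fun x => by
    haveI := (hnor x).1
    haveI := (hnor x).2
    exact MiscFlat6.isRegularLocalRing_of_normal_dim_le_one _ ((MiscFlat6.ringKrullDim_stalk_le Z x).trans hdim)
  haveI : GeometricallyConnected z :=
    SteinLib.gc_of_connected_isSepClosure z (L := K) (by
      haveI : IsIso (Spec.map (CommRingCat.ofHom (algebraMap K K))) := inferInstanceAs (IsIso (Spec.map (𝟙 (CommRingCat.of K))))
      exact (Scheme.homeoOfIso (asIso (pullback.fst z (Spec.map (CommRingCat.ofHom (algebraMap K K)))))).connectedSpace_iff.2 inferInstance)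
  have hd1 : topologicalKrullDim Z = 1 := le_antisymm hdim (EtCurveConsLib.one_le_of_pos _ (not_le.1 h0))
  obtain ⟨U, j, hj, hr, hsm, hc, hd⟩ := exists_curve_open z
    (fun Ω _ _ s => by
      haveI : GeometricallyConnected (pullback.snd z s) := MorphismProperty.pullback_snd _ _ ‹_›
      exact GeometricallyConnected.connectedSpace_of_subsingleton (pullback.snd z s))
    (fun Ω _ _ s => by
      rw [EtPBCCdLib.dim_pullback_point z s, ← hd1, Subsingleton.elim (α := PrimeSpectrum K) (s.base default) ((𝟙 _ : Spec (CommRingCat.of K) ⟶ _).base default),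
        ← EtPBCCdLib.dim_pullback_point z (𝟙 _)]
      exact (IsHomeomorph.topologicalKrullDim_eq _ (Scheme.homeoOfIso (IsPullback.of_id_fst (f := z)).isoPullback).isHomeomorph).symm)
    g sq
  exact ⟨U, j, hj, hr default, Or.inr ⟨inferInstance, hsm, hc, hd⟩⟩

/-- Spreading out over an affine integral base. -/
theorem exists_spread_affine {X S : Scheme.{u}} [IsAffine S] [IsIntegral S] [IsNoetherian S] (f : X ⟶ S) [IsProper f]
    (hdim : ∀ y : S, topologicalKrullDim (f.fiber y) ≤ 1) :
    ∃ (S' : Scheme.{u}) (_ : IsNoetherian S') (b : S' ⟶ S) (_ : LocallyOfFiniteType b)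
      (m : ℕ) (W : Fin m → Scheme.{u}) (ν : ∀ i, W i ⟶ pullback f b),
      genericPoint S ∈ Set.range b.base ∧ (∀ i, IsFinite (ν i)) ∧
      (∀ x, ∃ i, x ∈ Set.range (ν i).base) ∧ ∀ i, Elem (ν i ≫ pullback.snd f b) := by
  let K := AlgebraicClosure S.functionField
  let φ₀ : Γ(S, ⊤) →+* K :=
    (algebraMap S.functionField K).comp (S.presheaf.germ ⊤ (genericPoint S) trivial).hom
  have hφ₀ : Function.Injective φ₀ := (algebraMap S.functionField K).injective.comp
    (germ_injective_of_isIntegral S (genericPoint S) (U := ⊤) trivial)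
  let φ : CommRingCat.of Γ(S, ⊤) ⟶ CommRingCat.of K := CommRingCat.ofHom φ₀
  let A := ConsLib.homSys φ S.isoSpec
  letI := φ.hom.toAlgebra
  haveI : ∀ i j (a : i ⟶ j), IsAffineHom (A.D.map a) := fun _ _ a => A.affine_map a
  haveI : ∀ i, IsNoetherian (A.D.obj i) := fun i => by
    haveI := ConsLib.homSys_lft φ S.isoSpec i
    haveI := A.affine i
    haveI : IsLocallyNoetherian (A.D.obj i) := LocallyOfFiniteType.isLocallyNoetherian (A.t i)
    haveI : CompactSpace (A.D.obj i) := A.compactSpace_obj i
    exact ⟨⟩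
  haveI : ∀ i, IsIntegral (A.D.obj i) := fun i =>
    inferInstanceAs (IsIntegral (Spec (CommRingCat.of i.unop.1)))
  let δ : A.c.pt := (default : PrimeSpectrum K)
  have hη : ∀ i, (A.c.π.app i).base δ = genericPoint (A.D.obj i) := fun i =>
    eq_genericPoint_of_injective i.unop.1.val.toRingHom Subtype.val_injective δ
  have hs : A.s.base δ = genericPoint S := by
    haveI : IsIntegral (Spec Γ(S, ⊤)) := isIntegral_of_isOpenImmersion S.isoSpec.inv
    show S.isoSpec.inv.base ((Spec.map φ).base δ) = _
    rw [eq_genericPoint_of_injective φ₀ hφ₀]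
    exact genericPoint_eq_of_isOpenImmersion S.isoSpec.inv
  let B := pb A f
  haveI : ∀ i j (a : i ⟶ j), IsAffineHom (B.D.map a) := fun _ _ a => B.affine_map a
  haveI : CompactSpace X := QuasiCompact.compactSpace_of_compactSpace f
  haveI : QuasiSeparatedSpace X := quasiSeparatedSpace_of_quasiSeparated f
  haveI : ∀ i, CompactSpace (B.D.obj i) := fun i => B.compactSpace_obj i
  haveI : ∀ i, QuasiSeparatedSpace (B.D.obj i) := fun i => B.quasiSeparatedSpace_obj i
  haveI : IsProper (pullback.snd f A.s) := inferInstance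
  -- the geometric generic fibre
  let zK : B.c.pt ⟶ Spec (CommRingCat.of K) := pullback.snd f A.s
  haveI : IsProper zK := inferInstanceAs (IsProper (pullback.snd f A.s))
  have hdK : topologicalKrullDim B.c.pt ≤ 1 := by
    show topologicalKrullDim ↥(pullback f A.s) ≤ 1
    rw [EtPBCCdLib.dim_pullback_point (Ω := K) f A.s]
    exact hdim _
  obtain ⟨m, Z, ν₀, hν, hZ, hnor, hZd, hcov⟩ := ConsFiniteLib.exists_normal_cover K zK hdK
  haveI := hν
  haveI := hZ
  haveI : IsLocallyNoetherian B.c.pt := LocallyOfFiniteType.isLocallyNoetherian zK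
  have hmod : ∀ l, ∃ (i : _) (M : DescFP.Model B.c (ν₀ l) i), IsFinite M.p ∧ Flat (M.p ≫ pullback.snd f (A.t i)) := by
    intro l
    haveI : LocallyOfFinitePresentation (ν₀ l) := LocallyOfFinitePresentation.iff_locallyOfFiniteType.2 inferInstance
    obtain ⟨i, ⟨M⟩⟩ := DescFP.exists_model B.hc (ν₀ l)
    haveI := M.lfp; haveI := M.qc; haveI := M.qs
    let B' := ofStage B.D B.c B.hc i
    obtain ⟨φ₁, h₁⟩ := exists_at_isFinite B' M.p (by
      show IsFinite (pullback.snd M.p (B.c.π.app i))
      rw [← M.sq.isoPullback_inv_snd, MorphismProperty.cancel_left_of_respectsIso (P := @IsFinite)]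
      infer_instance)
    let M' := M.push φ₁.hom
    haveI : IsFinite M'.p := h₁
    haveI := M'.lfp
    haveI : IsNoetherian (A.D.obj φ₁.left) := inferInstance
    let g := M'.p ≫ pullback.snd f (A.t φ₁.left)
    haveI : IsProper (pullback.snd f (A.t φ₁.left)) := inferInstance
    haveI : IsProper g := MorphismProperty.comp_mem _ _ _ (inferInstanceAs (IsProper M'.p)) ‹_›
    haveI : LocallyOfFinitePresentation g := LocallyOfFinitePresentation.iff_locallyOfFiniteType.2 inferInstance
    let A' := ofStage A.D A.c A.hc φ₁.left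
    obtain ⟨φ₂, h₂⟩ := exists_at_flat A' g (Groth.Agent.S4672.flat_of_field (k := K) (pullback.snd g A'.s))
    refine ⟨φ₂.left, M'.push φ₂.hom, MorphismProperty.pullback_snd _ _ h₁, ?_⟩
    have sq' : IsPullback (M'.pfst φ₂.hom) ((M'.push φ₂.hom).p ≫ pullback.snd f (A.t φ₂.left)) g (A.D.map φ₂.hom) :=
      (M'.isPullback_pfst φ₂.hom).paste_vert (isPullback_map A f φ₂.hom)
    rw [← sq'.isoPullback_hom_snd, MorphismProperty.cancel_left_of_respectsIso (P := @Flat)]
    exact h₂
  choose i M hfin hflat using hmod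
  classical
  obtain ⟨k, hk⟩ := IsCofiltered.inf_objs_exists (Finset.univ.image i)
  have a : ∀ l, k ⟶ i l := fun l => (hk (Finset.mem_image_of_mem i (Finset.mem_univ l))).some
  let R := A.D.obj k
  let fk := pullback.snd f (A.t k)
  haveI : IsProper fk := inferInstance
  let M' := fun l => (M l).push (a l)
  haveI hfin' : ∀ l, IsFinite (M' l).p := fun l => MorphismProperty.pullback_snd _ _ (hfin l)
  have hflat' : ∀ l, Flat ((M' l).p ≫ fk) := fun l => by
    have sq' : IsPullback ((M l).pfst (a l)) ((M' l).p ≫ fk) ((M l).p ≫ pullback.snd f (A.t (i l))) (A.D.map (a l)) :=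
      ((M l).isPullback_pfst (a l)).paste_vert (isPullback_map A f (a l))
    exact MorphismProperty.of_isPullback sq' (hflat l)
  have hel : ∀ l, ∃ (U : Scheme.{u}) (j : U ⟶ R) (_ : IsOpenImmersion j),
      genericPoint R ∈ Set.range j.base ∧ Elem (pullback.snd ((M' l).p ≫ fk) j) := fun l => by
    haveI := hflat' l
    haveI : IsProper ((M' l).p ≫ fk) := MorphismProperty.comp_mem _ _ _ (inferInstanceAs (IsProper (M' l).p)) ‹_›
    rw [← hη k]
    exact exists_elem_open (hnor l) (hZd l) ((M' l).p ≫ fk) (z := ν₀ l ≫ zK)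
      ((M' l).sq.paste_vert (isPullback_cone A f k)) δ
  choose U j hj hjr hjE using hel
  -- the covered locus
  let C : Set ↥(B.D.obj k) := ⋃ l : Fin m, Set.range ⇑(M' l).p
  have hC : IsClosed C := isClosed_iUnion_of_finite fun l => (M' l).p.isClosedMap.isClosed_range
  let E : Set R := fk.base '' Cᶜ
  haveI : IsNoetherian (pullback f (A.t k)) :=
    haveI : IsLocallyNoetherian (pullback f (A.t k)) := LocallyOfFiniteType.isLocallyNoetherian fk
    haveI : CompactSpace ↥(pullback f (A.t k)) := QuasiCompact.compactSpace_of_compactSpace fk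
    ⟨⟩
  haveI : LocallyOfFinitePresentation fk := LocallyOfFinitePresentation.iff_locallyOfFiniteType.2 inferInstance
  have hE : Topology.IsConstructible E := fk.isConstructible_image
    (IsRetrocompact.isConstructible hC.isOpen_compl fun _ _ _ => TopologicalSpace.NoetherianSpace.isCompact _)
  have hηE : genericPoint R ∉ closure E := by
    intro hcl
    obtain ⟨w, hw, hwη⟩ := genericPoint_mem_of_mem_closure hE hcl
    obtain ⟨t, ht, -⟩ := Scheme.Pullback.exists_preimage_pullback (f := fk) (g := A.c.π.app k) w δ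
      (hwη.trans (hη k).symm)
    obtain ⟨t', rfl⟩ := (isPullback_cone A f k).isoPullback.hom.surjective t
    obtain ⟨l, z, rfl⟩ := hcov t'
    refine hw (Set.mem_iUnion.2 ⟨l, (M' l).g.base z, ?_⟩)
    rw [← ht, ← Scheme.Hom.comp_apply, ← Scheme.Hom.comp_apply, (M' l).sq.w, (isPullback_cone A f k).isoPullback_hom_fst]
    rfl
  let O : R.Opens := ⟨(closure E)ᶜ ∩ ⋂ l, Set.range (j l).base,
    isClosed_closure.isOpen_compl.inter (isOpen_iInter_of_finite fun l => (hj l).base_open.isOpen_range)⟩
  have hηO : genericPoint R ∈ O := ⟨hηE, Set.mem_iInter.2 hjr⟩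
  haveI : IsNoetherian O.toScheme :=
    haveI : IsLocallyNoetherian O.toScheme := isLocallyNoetherian_of_isOpenImmersion O.ι
    haveI : CompactSpace O.toScheme := isCompact_iff_compactSpace.1 (TopologicalSpace.NoetherianSpace.isCompact _)
    ⟨⟩
  let b := O.ι ≫ A.t k
  let pr : pullback f b ⟶ pullback f (A.t k) := pullback.lift (pullback.fst f b) (pullback.snd f b ≫ O.ι)
    (by rw [pullback.condition, Category.assoc])
  have hpr : IsPullback pr (pullback.snd f b) fk O.ι :=
    IsPullback.of_right (by rw [pullback.lift_fst]; exact IsPullback.of_hasPullback f b) (pullback.lift_snd _ _ _)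
      (IsPullback.of_hasPullback f (A.t k))
  haveI : LocallyOfFiniteType (A.t k) := ConsLib.homSys_lft φ S.isoSpec k
  refine ⟨O.toScheme, inferInstance, b, inferInstance, m, fun l => pullback (M' l).p pr, fun l => pullback.snd _ _,
    ⟨⟨genericPoint R, hηO⟩, ?_⟩, fun l => MorphismProperty.pullback_snd _ _ (hfin' l), fun x => ?_, fun l => ?_⟩
  · show (A.t k).base (genericPoint R) = genericPoint S
    rw [← hη k, ← Scheme.Hom.comp_apply, A.hs k]
    exact hs
  · have hx : pr.base x ∈ C := by
      by_contra hx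
      refine ((pullback.snd f b).base x).2.1 (subset_closure ⟨_, hx, ?_⟩)
      rw [← Scheme.Hom.comp_apply, hpr.w]
      rfl
    obtain ⟨l, z, hz⟩ := Set.mem_iUnion.1 hx
    obtain ⟨t, -, ht⟩ := Scheme.Pullback.exists_preimage_pullback (f := (M' l).p) (g := pr) z x hz
    exact ⟨l, t, ht⟩
  · haveI := hj l
    have hr : Set.range O.ι.base ⊆ Set.range (j l).base := by
      rw [Scheme.Opens.range_ι]
      exact fun x hx => Set.mem_iInter.1 hx.2 l
    let e := IsOpenImmersion.lift (j l) O.ι hr
    have he : e ≫ j l = O.ι := IsOpenImmersion.lift_fac _ _ _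
    have sqW : IsPullback (pullback.fst (M' l).p pr) (pullback.snd (M' l).p pr ≫ pullback.snd f b)
        ((M' l).p ≫ fk) O.ι := (IsPullback.of_hasPullback (M' l).p pr).paste_vert hpr
    refine elem_baseChange (hjE l) (a := pullback.lift (pullback.fst (M' l).p pr)
      ((pullback.snd (M' l).p pr ≫ pullback.snd f b) ≫ e) (by rw [Category.assoc, he]; exact sqW.w)) (b := e) ?_
    refine IsPullback.of_right ?_ (pullback.lift_snd _ _ _) (IsPullback.of_hasPullback ((M' l).p ≫ fk) (j l))
    rw [pullback.lift_fst, he]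
    exact sqW

end EtProperConsLib
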